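import Cfsg.Agent.Lib.FixityFour5.ThreeGroup
import Cfsg.Agent.Lib.Fusion.Thompson

/-!
# Fixity four, 3-elements: general lemmas

helper5, for the odd case of S3365: fixed-point counts of 3-elements, the image on at most four points,
the odd stabiliser of two sets, strongly 3-embedded set stabilisers, and transfer from fusion invariance.
-/

set_option autoImplicit false
set_option linter.style.haveILetI false

open scoped Pointwise

namespace Cfsg.Agent.Lib.FixityFour5

open MulAction

variable {G Ω : Type*} [Group G] [MulAction G Ω]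

theorem fixedBy_conj (g y : G) : fixedBy Ω (g * y * g⁻¹) = g • fixedBy Ω y := (MulAction.smul_fixedBy Ω y g).symm

theorem ncard_fixedBy_conj (g y : G) :
    (fixedBy Ω (g * y * g⁻¹)).ncard = (fixedBy Ω y).ncard := by
  rw [fixedBy_conj, Set.ncard_smul_set]

/-- A 3-group of symmetries of a set of at most four points has a pointwise stabilizer of index at most three. -/
theorem card_le_three_mul [Finite G] [Finite Ω] (B : Set Ω) (hB : B.ncard ≤ 4) (U W : Subgroup G)
    (hU : IsPGroup 3 U) (hUB : ∀ u ∈ U, u • B = B)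
    (hW : ∀ u ∈ U, (∀ b ∈ B, u • b = b) → u ∈ W) : Nat.card U ≤ 3 * Nat.card W := by
  classical
  haveI : Fact (Nat.Prime 3) := ⟨Nat.prime_three⟩
  have hmem : ∀ (u : ↥U) (b : ↥B), (u : G) • (b : Ω) ∈ B := fun u b => by
    have := Set.smul_mem_smul_set (a := (u : G)) b.2
    rwa [hUB u u.2] at this
  let ρ : ↥U →* Equiv.Perm ↥B :=
    { toFun := fun u => ⟨fun b => ⟨(u : G) • (b : Ω), hmem u b⟩, fun b => ⟨((u⁻¹ : ↥U) : G) • (b : Ω), hmem u⁻¹ b⟩,
        fun b => Subtype.ext (by simp), fun b => Subtype.ext (by simp)⟩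
      map_one' := Equiv.ext fun b => Subtype.ext (by simp)
      map_mul' := fun u v => Equiv.ext fun b => Subtype.ext (by simp [mul_smul]) }
  have h1 : Nat.card ρ.range ≤ 3 := by
    obtain ⟨k, hk⟩ := IsPGroup.iff_card.1 (hU.of_surjective ρ.rangeRestrict ρ.rangeRestrict_surjective)
    have h2 : Nat.card ρ.range ∣ Nat.factorial 4 := by
      refine (Subgroup.card_subgroup_dvd_card _).trans ?_
      rw [Nat.card_perm, Nat.card_coe_set_eq]
      exact Nat.factorial_dvd_factorial hB
    rw [hk] at h2 ⊢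
    rcases Nat.lt_or_ge k 2 with hk2 | hk2
    · calc 3 ^ k ≤ 3 ^ 1 := Nat.pow_le_pow_right (by norm_num) (by omega)
        _ = 3 := by norm_num
    · exact absurd ((pow_dvd_pow 3 hk2).trans h2) (by decide)
  have h2 : Nat.card ρ.ker ≤ Nat.card W := by
    rw [← Subgroup.card_map_of_injective U.subtype_injective]
    refine Subgroup.card_le_of_le ?_
    rintro _ ⟨u, hu, rfl⟩
    refine hW u u.2 fun b hb => ?_
    exact congrArg Subtype.val (Equiv.congr_fun (MonoidHom.mem_ker.1 hu) ⟨b, hb⟩)
  have h3 := ρ.ker.card_mul_index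
  rw [Subgroup.index_ker] at h3
  rw [← h3, mul_comm]
  exact Nat.mul_le_mul h1 h2

/-- A fixed-point-free involution preserves no set of three points. -/
theorem odd_orderOf_of_preserves [Finite G] {D : Set Ω} (hD : D.ncard = 3)
    (hinv : ∀ g : G, orderOf g = 2 → ∀ b : Ω, g • b ≠ b) {g : G} (hg : g • D = D) : Odd (orderOf g) := by
  by_contra hodd
  obtain ⟨k, hk⟩ := Nat.not_odd_iff_even.1 hodd
  set t := g ^ k with htdef
  have hpos := orderOf_pos g
  have ht2 : orderOf t = 2 := by
    refine orderOf_eq_prime ?_ fun h => ?_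
    · rw [htdef, ← pow_mul, show k * 2 = orderOf g by omega, pow_orderOf_eq_one]
    · have := Nat.le_of_dvd (by omega) (orderOf_dvd_of_pow_eq_one h)
      omega
  have htD : t • D = D := (Subgroup.pow_mem (stabilizer G D) hg k : t ∈ stabilizer G D)
  obtain ⟨b₁, b₂, b₃, h12, h13, h23, rfl⟩ := Set.ncard_eq_three.1 hD
  have hmem : ∀ b ∈ ({b₁, b₂, b₃} : Set Ω), t • b = b₁ ∨ t • b = b₂ ∨ t • b = b₃ := fun b hb => by
    have h := Set.smul_mem_smul_set (a := t) hb
    rw [htD] at h
    simpa using h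
  have hne := hinv t ht2
  have htt : ∀ b : Ω, t • t • b = b := fun b => by
    rw [← mul_smul, ← pow_two, ← ht2, pow_orderOf_eq_one, one_smul]
  rcases hmem b₁ (by simp) with h | h | h
  · exact hne b₁ h
  · rcases hmem b₃ (by simp) with h' | h' | h'
    · exact h23 (by rw [← h, ← h', htt])
    · exact h13 (by have := congrArg (t • ·) (h.trans h'.symm); simpa [htt] using this)
    · exact hne b₃ h'
  · rcases hmem b₂ (by simp) with h' | h' | h'
    · exact h23 (by rw [← h, ← h', htt])
    · exact hne b₂ h'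
    · exact h12 (by have := congrArg (t • ·) (h.trans h'.symm); simpa [htt] using this)

/-- A set stabilizer whose elements of order three fix exactly that set is strongly 3-embedded. -/
theorem strongly_embedded_of_stabilizer [Finite G] {D : Set Ω} (hne : stabilizer G D ≠ ⊤)
    (h3 : 3 ∣ Nat.card (stabilizer G D))
    (hfix : ∀ y ∈ stabilizer G D, orderOf y = 3 → fixedBy Ω y = D) :
    ∃ H : Subgroup G, H ≠ ⊤ ∧ 3 ∣ Nat.card H ∧
      ∀ g : G, g ∉ H → ¬ 3 ∣ Nat.card ↥(H ⊓ H.map (MulAut.conj g).toMonoidHom) := by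
  haveI : Fact (Nat.Prime 3) := ⟨Nat.prime_three⟩
  refine ⟨stabilizer G D, hne, h3, fun g hg hdvd => hg ?_⟩
  obtain ⟨y, hy⟩ := exists_prime_orderOf_dvd_card' 3 hdvd
  obtain ⟨hyH, z, hzH, hzy⟩ := Subgroup.mem_inf.1 y.2
  have hzy' : g * z * g⁻¹ = (y : G) := hzy
  have hyo : orderOf (y : G) = 3 := by rw [Subgroup.orderOf_coe, hy]
  have hzo : orderOf z = 3 := by
    rw [← hzy', show g * z * g⁻¹ = MulAut.conj g z from rfl, MulEquiv.orderOf_eq] at hyo
    exact hyo
  have h := hfix _ hyH hyo
  rw [← hzy', fixedBy_conj, hfix z hzH hzo] at h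
  exact h

/-- A fusion invariant homomorphism on a Sylow subgroup shows that elements outside its kernel are
outside the derived group. -/
theorem not_mem_commutator {K C : Type*} [Group K] [Finite K] [CommGroup C] {p : ℕ} [hp : Fact p.Prime]
    (S : Sylow p K) (φ : ↥(S : Subgroup K) →* C) (hφp : ∀ s, φ s ^ p = 1)
    (hinv : ∀ (u v : ↥(S : Subgroup K)) (g : K), g * u * g⁻¹ = v → φ u = φ v)
    (u : ↥(S : Subgroup K)) (hu : φ u ≠ 1) : (u : K) ∉ commutator K := by
  intro hc
  have h := Fusion.Thompson.transfer_controlled φ (u : K) u.2 fun m a h => by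
    rw [← map_pow]
    exact (hinv (⟨(u : K), u.2⟩ ^ m) ⟨_, h⟩ a (by simp)).symm
  have h1 : MonoidHom.transfer φ (u : K) = 1 := Abelianization.commutator_subset_ker _ hc
  rw [h1] at h
  have hcop : Nat.Coprime p (S : Subgroup K).index :=
    (Nat.Prime.coprime_iff_not_dvd hp.out).2 S.not_dvd_index
  have h2 := pow_gcd_eq_one.2 ⟨hφp u, h.symm⟩
  rw [hcop.gcd_eq_one, pow_one] at h2
  exact hu h2

end Cfsg.Agent.Lib.FixityFour5
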