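import Cfsg.Agent.Lib.FixityFour5.Action
import Cfsg.Agent.S2807
import Cfsg.Prelude.Def_Transfer

/-!
# Fixity four with odd point stabilizers of order divisible by three

helper5, for S3365 (notes/s3365_plan_helper61.md, odd case).

Let `P` be a Sylow 3-subgroup with `e` fixed points.  Either a set stabilizer is strongly 3-embedded, or
`e ≤ 1` and some element of order three of `P` fixes `e + 3` points; in the latter case `P` has an element of
order three with centralizer of order nine (otherwise transfer gives a quotient of order three), and then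
Wielandt–Yoshida forces `P` to be `C₃ ≀ C₃` unless `|P| = 9`.
-/

set_option autoImplicit false
set_option linter.style.haveILetI false

open scoped Pointwise

namespace Cfsg.Agent.Lib.FixityFour5

open MulAction

set_option linter.unusedSectionVars false

variable {G Ω : Type*} [Group G] [Finite G] [MulAction G Ω] [Finite Ω]

/-- The points fixed by a subgroup. -/
def fixOf (Ω : Type*) [MulAction G Ω] (U : Subgroup G) : Set Ω := {b | ∀ u ∈ U, u • b = b}

theorem card_modEq_fixOf (U : Subgroup G) (hU : IsPGroup 3 U) :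
    Nat.card Ω ≡ (fixOf Ω U).ncard [MOD 3] := by
  haveI : Fact (Nat.Prime 3) := ⟨Nat.prime_three⟩
  have h := hU.card_modEq_card_fixedPoints Ω
  have e : fixedPoints (↥U) Ω = fixOf Ω U := by
    ext b
    exact ⟨fun hb u hu => hb ⟨u, hu⟩, fun hb u => hb u u.2⟩
  rwa [e, Nat.card_coe_set_eq] at h

theorem fixOf_zpowers (u : G) : fixOf Ω (Subgroup.zpowers u) = fixedBy Ω u := by
  ext b
  refine ⟨fun hb => hb u (Subgroup.mem_zpowers u), fun hb v hv => ?_⟩
  obtain ⟨k, rfl⟩ := Subgroup.mem_zpowers_iff.1 hv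
  exact mem_fixedBy_zpow hb k

theorem smul_fixOf {U : Subgroup G} {n : G} (hn : n ∈ Subgroup.normalizer (U : Set G)) :
    n • fixOf Ω U = fixOf Ω U := by
  have key : ∀ m ∈ Subgroup.normalizer (U : Set G), m • fixOf Ω U ⊆ fixOf Ω U := by
    rintro m hm _ ⟨b, hb, rfl⟩ u hu
    have h1 : m⁻¹ * u * m ∈ U := by
      have := (Subgroup.mem_normalizer_iff.1 (inv_mem hm) u).1 hu
      simpa using this
    show u • m • b = m • b
    calc u • m • b = m • (m⁻¹ * u * m) • b := by rw [← mul_smul, ← mul_smul]; group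
      _ = m • b := by rw [hb _ h1]
  refine Set.Subset.antisymm (key n hn) ?_
  rw [Set.subset_smul_set_iff]
  exact key n⁻¹ (inv_mem hn)

/-- A set of at least five points is not embedded by a group whose order is divisible by nine. -/
theorem five_le_card [FaithfulSMul G Ω] (h9 : 9 ∣ Nat.card G) : 4 < Nat.card Ω := by
  by_contra hle
  have h := (h9.trans (Subgroup.card_dvd_of_injective (MulAction.toPermHom G Ω) MulAction.toPerm_injective)).trans
    (by rw [Nat.card_perm]; exact Nat.factorial_dvd_factorial (not_lt.1 hle) :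
      Nat.card (Equiv.Perm Ω) ∣ Nat.factorial 4)
  exact absurd h (by decide)

/-- If every element of order three fixes at most as many points as `P`, and `P` fixes a point, the
stabilizer of the fixed set is strongly 3-embedded. -/
theorem strongly_embedded_of_fixed [FaithfulSMul G Ω] (htrans : MulAction.IsPretransitive G Ω)
    [Fact (Nat.Prime 3)] (P : Sylow 3 G) (h3G : 3 ∣ Nat.card P) (hΩ : 4 < Nat.card Ω)
    (h4 : (fixOf Ω (P : Subgroup G)).ncard ≤ 4) (hne : (fixOf Ω (P : Subgroup G)).Nonempty)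
    (hle : ∀ y : G, orderOf y = 3 → (fixedBy Ω y).ncard ≤ (fixOf Ω (P : Subgroup G)).ncard) :
    ∃ H : Subgroup G, H ≠ ⊤ ∧ 3 ∣ Nat.card H ∧
      ∀ g : G, g ∉ H → ¬ 3 ∣ Nat.card ↥(H ⊓ H.map (MulAut.conj g).toMonoidHom) := by
  classical
  set D := fixOf Ω (P : Subgroup G) with hDdef
  have hPH : (P : Subgroup G) ≤ stabilizer G D := fun u hu =>
    smul_fixOf (Subgroup.le_normalizer hu)
  refine strongly_embedded_of_stabilizer (D := D) ?_ ?_ ?_
  · intro htop
    obtain ⟨b, hb⟩ := hne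
    have huniv : D = Set.univ := Set.eq_univ_of_forall fun c => by
      obtain ⟨g, rfl⟩ := htrans.exists_smul_eq b c
      have hg : g • D = D := (htop ▸ Subgroup.mem_top g : g ∈ stabilizer G D)
      rw [← hg]; exact Set.smul_mem_smul_set hb
    rw [huniv, Set.ncard_univ] at h4
    omega
  · exact h3G.trans (Subgroup.card_dvd_of_le hPH)
  · intro y hy hyo
    refine (Set.eq_of_subset_of_ncard_le ?_ (hle y hyo) (Set.toFinite _)).symm
    have hyP : IsPGroup 3 (Subgroup.zpowers (⟨y, hy⟩ : stabilizer G D)) :=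
      IsPGroup.of_card (n := 1) (by
        rw [Nat.card_zpowers, ← Subgroup.orderOf_coe]
        exact hyo.trans (pow_one 3).symm)
    obtain ⟨S, hS⟩ := hyP.exists_le_sylow
    obtain ⟨h, hh⟩ := MulAction.exists_smul_eq (stabilizer G D) (P.subtype hPH) S
    have hyS := hS (Subgroup.mem_zpowers _)
    rw [← hh, Sylow.coe_subgroup_smul, Subgroup.mem_pointwise_smul_iff_inv_smul_mem] at hyS
    have hyS' : (h : G)⁻¹ * y * (h : G) ∈ (P : Subgroup G) := by
      simpa [Subgroup.mem_subgroupOf, ← map_inv] using hyS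
    intro b hb
    have hb' : (h : G)⁻¹ • b ∈ D := by
      have hinv : (h : G)⁻¹ • D = D := ((h⁻¹ : stabilizer G D)).2
      have hh' := Set.smul_mem_smul_set (a := (h : G)⁻¹) hb
      rwa [hinv] at hh'
    have := hb' _ hyS'
    rw [← mul_smul, mul_inv_cancel_right, mul_smul, smul_left_cancel_iff] at this
    exact this

/-- An element of order three of `P` with a small centralizer. -/
theorem exists_small_centralizer [IsSimpleGroup G] (hna : ¬ IsMulCommutative G) [Fact (Nat.Prime 3)]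
    (hfix : ∀ g : G, g ≠ 1 → (fixedBy Ω g).ncard ≤ 4)
    (hinv : ∀ g : G, orderOf g = 2 → ∀ b : Ω, g • b ≠ b) (P : Sylow 3 G) {q : G}
    (hq : q ∈ (P : Subgroup G)) (hqo : orderOf q = 3)
    (hqf : (fixOf Ω (P : Subgroup G)).ncard < (fixedBy Ω q).ncard) :
    ∃ x ∈ (P : Subgroup G), orderOf x = 3 ∧
      (fixedBy Ω x).ncard = (fixOf Ω (P : Subgroup G)).ncard + 3 ∧
      Nat.card ↥(Subgroup.centralizer {x} ⊓ (P : Subgroup G)) ≤ 9 ∧
      ∃ y ∈ (P : Subgroup G), y ^ 3 = 1 ∧ y ∉ Subgroup.zpowers x := by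
  classical
  set F := fixOf Ω (P : Subgroup G) with hF
  have hsub : ∀ {u : G}, u ∈ (P : Subgroup G) → F ⊆ fixedBy Ω u := fun hu b hb => hb _ hu
  have hval : ∀ u ∈ (P : Subgroup G), u ≠ 1 →
      (fixedBy Ω u).ncard = F.ncard ∨ (fixedBy Ω u).ncard = F.ncard + 3 := by
    intro u hu hu1
    have h1 := card_modEq_fixOf (Ω := Ω) _ P.2
    have h2 := card_modEq_fixOf (Ω := Ω) _ (P.2.to_le (Subgroup.zpowers_le.2 hu))
    rw [fixOf_zpowers] at h2
    have h3 : F.ncard % 3 = (fixedBy Ω u).ncard % 3 := h1.symm.trans h2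
    have h4 := Set.ncard_le_ncard (hsub hu) (Set.toFinite _)
    have h5 := hfix u hu1
    omega
  set Δ := fixedBy Ω q with hΔdef
  have hq1 : q ≠ 1 := fun h => by rw [h, orderOf_one] at hqo; omega
  have hΔ : Δ.ncard = F.ncard + 3 := (hval q hq hq1).resolve_left hqf.ne'
  have hFΔ : F ⊆ Δ := hsub hq
  have hΔ4 : Δ.ncard ≤ 4 := hfix q hq1
  have heq : ∀ u ∈ (P : Subgroup G), u ≠ 1 → (∀ b ∈ Δ, u • b = b) → fixedBy Ω u = Δ := by
    intro u hu hu1 hb
    refine (Set.eq_of_subset_of_ncard_le (show Δ ⊆ fixedBy Ω u from fun b hb' => hb b hb') ?_ (Set.toFinite _)).symm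
    rcases hval u hu hu1 with h | h <;> omega
  set Qs : Subgroup G := (P : Subgroup G) ⊓ fixingSubgroup G Δ with hQs
  set Ls : Subgroup G := (P : Subgroup G) ⊓ stabilizer G Δ with hLs
  have hmemQ : ∀ {u : G}, u ∈ Qs ↔ u ∈ (P : Subgroup G) ∧ ∀ b ∈ Δ, u • b = b := by
    intro u; rw [hQs, Subgroup.mem_inf, mem_fixingSubgroup_iff]
  have hqQ : q ∈ Qs := hmemQ.2 ⟨hq, fun b hb => hb⟩
  have hCq : Subgroup.centralizer {q} ⊓ (P : Subgroup G) ≤ Ls := by
    rintro u ⟨hu, huP⟩
    refine ⟨huP, ?_⟩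
    show u • Δ = Δ
    have hu' : u * q = q * u := Subgroup.mem_centralizer_singleton_iff.1 hu
    rw [hΔdef, ← fixedBy_conj, hu', mul_inv_cancel_right]
  by_cases hLP : (P : Subgroup G) ≤ stabilizer G Δ
  swap
  · -- (C) the stabilizer of `Δ` in `P` is proper
    haveI : Group.IsNilpotent ↥(P : Subgroup G) := P.2.isNilpotent
    have hlt : Ls.subgroupOf (P : Subgroup G) < ⊤ := lt_top_iff_ne_top.2 fun h => hLP fun u hu => by
      have : (⟨u, hu⟩ : ↥(P : Subgroup G)) ∈ Ls.subgroupOf (P : Subgroup G) := h ▸ Subgroup.mem_top _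
      exact (Subgroup.mem_subgroupOf.1 this).2
    obtain ⟨⟨s, hsP⟩, hsN, hsL⟩ :=
      SetLike.exists_of_lt (Group.normalizerCondition_of_isNilpotent _ hlt)
    have hsΔ : s • Δ ≠ Δ := fun h => hsL (Subgroup.mem_subgroupOf.2 ⟨hsP, h⟩)
    have hconj : ∀ v ∈ Ls, s * v * s⁻¹ ∈ Ls := fun v hv => by
      have := (Subgroup.mem_normalizer_iff.1 hsN ⟨v, hv.1⟩).1 (Subgroup.mem_subgroupOf.2 hv)
      simpa [Subgroup.mem_subgroupOf] using this
    have hQL : Qs ≤ Ls := fun v hv => by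
      refine ⟨(hmemQ.1 hv).1, ?_⟩
      show v • Δ = Δ
      refine (Set.image_congr (hmemQ.1 hv).2).trans (Set.image_id' Δ)
    -- nothing nontrivial fixes both `Δ` and `s • Δ`
    have htriv : ∀ u ∈ (P : Subgroup G), (∀ b ∈ Δ, u • b = b) → (∀ b ∈ s • Δ, u • b = b) → u = 1 := by
      intro u hu h1 h2
      by_contra hu1
      refine hsΔ (Set.eq_of_subset_of_ncard_le ?_ (by rw [Set.ncard_smul_set]) (Set.toFinite _))
      intro b hb
      rw [← heq u hu hu1 h1]
      exact h2 b hb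
    set Qt : Subgroup G := Qs.map (MulAut.conj s).toMonoidHom with hQt
    have hQtL : Qt ≤ Ls := by rintro _ ⟨v, hv, rfl⟩; exact hconj v (hQL hv)
    have hQtfix : ∀ u ∈ Qt, ∀ b ∈ s • Δ, u • b = b := by
      rintro _ ⟨v, hv, rfl⟩ _ ⟨b, hb, rfl⟩
      show (s * v * s⁻¹) • s • b = s • b
      rw [← mul_smul, inv_mul_cancel_right, mul_smul, (hmemQ.1 hv).2 b hb]
    have hQ3 : Nat.card Qs ≤ 3 := by
      have h := card_le_three_mul Δ hΔ4 Qt ⊥ (P.2.to_le fun u hu => (hQtL hu).1)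
        (fun u hu => (hQtL hu).2) fun u hu h1 => Subgroup.mem_bot.2 (htriv u (hQtL hu).1 h1 (hQtfix u hu))
      rwa [hQt, Subgroup.card_map_of_injective (MulAut.conj s).injective, Subgroup.card_bot, mul_one] at h
    have hL9 : Nat.card Ls ≤ 9 := by
      have h := card_le_three_mul Δ hΔ4 Ls Qs (P.2.to_le fun u hu => hu.1) (fun u hu => hu.2)
        fun u hu h1 => hmemQ.2 ⟨hu.1, h1⟩
      omega
    refine ⟨q, hq, hqo, hΔ, (Subgroup.card_le_of_le hCq).trans hL9, s * q * s⁻¹,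
      mul_mem (mul_mem hsP hq) (inv_mem hsP), ?_, fun hmem => ?_⟩
    · rw [conj_pow, ← hqo, pow_orderOf_eq_one, mul_one, mul_inv_cancel]
    · have hyQ : s * q * s⁻¹ ∈ Qs := (Subgroup.zpowers_le.2 hqQ) hmem
      have h := htriv _ (hmemQ.1 hyQ).1 (hmemQ.1 hyQ).2 (hQtfix _ ⟨q, hqQ, rfl⟩)
      refine hq1 ?_
      calc q = s⁻¹ * (s * q * s⁻¹) * s := by group
        _ = 1 := by rw [h]; group
  -- (D) `P` stabilizes `Δ`
  have hPQ : ∀ u ∈ (P : Subgroup G), ∀ v ∈ Qs, u * v * u⁻¹ ∈ Qs := by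
    intro u hu v hv
    refine hmemQ.2 ⟨mul_mem (mul_mem hu (hmemQ.1 hv).1) (inv_mem hu), fun b hb => ?_⟩
    have hb' : u⁻¹ • b ∈ Δ := by
      rw [← (hLP (inv_mem hu) : u⁻¹ • Δ = Δ)]; exact Set.smul_mem_smul_set hb
    rw [mul_smul, mul_smul, (hmemQ.1 hv).2 _ hb', smul_inv_smul]
  obtain ⟨z, hzQ, hzc, hzo⟩ : ∃ z ∈ Qs, (∀ u ∈ (P : Subgroup G), u * z = z * u) ∧ orderOf z = 3 := by
    haveI hn : (Qs.subgroupOf (P : Subgroup G)).Normal := ⟨fun v hv u => by
      simpa [Subgroup.mem_subgroupOf] using hPQ u u.2 v (Subgroup.mem_subgroupOf.1 hv)⟩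
    have hne : Qs.subgroupOf (P : Subgroup G) ≠ ⊥ := fun h => hq1 (by
      have : (⟨q, hq⟩ : ↥(P : Subgroup G)) ∈ Qs.subgroupOf (P : Subgroup G) :=
        Subgroup.mem_subgroupOf.2 hqQ
      rw [h, Subgroup.mem_bot] at this
      exact congrArg Subtype.val this)
    set Z := Qs.subgroupOf (P : Subgroup G) ⊓ Subgroup.center ↥(P : Subgroup G) with hZ
    have hZne : Z ≠ ⊥ := PGroups.normal_inf_center_ne_bot P.2 _ hne
    have h3 : 3 ∣ Nat.card Z := by
      obtain ⟨k, hk⟩ := IsPGroup.iff_card.1 (P.2.to_subgroup Z)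
      rw [hk]
      refine dvd_pow_self 3 fun h0 => hZne ?_
      rw [h0, pow_zero] at hk
      exact Subgroup.eq_bot_of_card_eq Z hk
    obtain ⟨w, hw⟩ := exists_prime_orderOf_dvd_card' 3 h3
    refine ⟨((w : ↥(P : Subgroup G)) : G), Subgroup.mem_subgroupOf.1 w.2.1, fun u hu => ?_, ?_⟩
    · exact congrArg Subtype.val (Subgroup.mem_center_iff.1 w.2.2 ⟨u, hu⟩)
    · rw [Subgroup.orderOf_coe, Subgroup.orderOf_coe, hw]
  by_cases hD1 : ∃ x ∈ (P : Subgroup G), x ∉ Qs ∧ (fixedBy Ω x).ncard = F.ncard + 3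
  · obtain ⟨x₀, hx₀P, hx₀Q, hx₀f⟩ := hD1
    have hx₀1 : x₀ ≠ 1 := fun h => hx₀Q (h ▸ one_mem Qs)
    obtain ⟨k, hk⟩ := P.2 ⟨x₀, hx₀P⟩
    have hdvd : orderOf x₀ ∣ 3 ^ k := orderOf_dvd_of_pow_eq_one (congrArg Subtype.val hk)
    obtain ⟨j, -, hj⟩ := (Nat.dvd_prime_pow Nat.prime_three).1 hdvd
    have hj0 : j ≠ 0 := fun h => hx₀1 (orderOf_eq_one_iff.1 (by rw [hj, h, pow_zero]))
    set x := x₀ ^ 3 ^ (j - 1) with hxdef
    have hxo : orderOf x = 3 := by
      have h3j : 3 ^ j = 3 ^ (j - 1) * 3 := by rw [← pow_succ, Nat.sub_add_cancel (by omega)]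
      rw [hxdef, orderOf_pow' _ (pow_ne_zero _ (by norm_num)), hj, h3j,
        Nat.gcd_mul_right_left, Nat.mul_div_cancel_left _ (pow_pos (by norm_num) _)]
    have hx1 : x ≠ 1 := fun h => by rw [h, orderOf_one] at hxo; omega
    have hxP : x ∈ (P : Subgroup G) := pow_mem hx₀P _
    have hxf : fixedBy Ω x = fixedBy Ω x₀ := by
      refine (Set.eq_of_subset_of_ncard_le ?_ ?_ (Set.toFinite _)).symm
      · rw [hxdef, ← zpow_natCast]; exact fixedBy_subset_fixedBy_zpow Ω x₀ _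
      · rw [hx₀f]; rcases hval x hxP hx1 with h | h <;> omega
    have hxQ : x ∉ Qs := by
      intro h
      refine hx₀Q (hmemQ.2 ⟨hx₀P, fun b hb => ?_⟩)
      rw [← heq x hxP hx1 (hmemQ.1 h).2, hxf] at hb
      exact hb
    have hxc : (fixedBy Ω x).ncard = F.ncard + 3 := hxf ▸ hx₀f
    set C := Subgroup.centralizer {x} ⊓ (P : Subgroup G) with hCdef
    have hC1 := card_le_three_mul Δ hΔ4 C (C ⊓ Qs) (P.2.to_le inf_le_right) (fun u hu => hLP hu.2)
      fun u hu h1 => ⟨hu, hmemQ.2 ⟨hu.2, h1⟩⟩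
    have hpres : ∀ u ∈ C, u • fixedBy Ω x = fixedBy Ω x := fun u hu => by
      rw [← fixedBy_conj, Subgroup.mem_centralizer_singleton_iff.1 hu.1, mul_inv_cancel_right]
    have hC2 := card_le_three_mul (fixedBy Ω x) (hfix x hx1) (C ⊓ Qs) ⊥
      (P.2.to_le (inf_le_left.trans inf_le_right)) (fun u hu => hpres u hu.1) fun u hu h1 => by
        rw [Subgroup.mem_bot]
        by_contra hu1
        refine hxQ (hmemQ.2 ⟨hxP, fun b hb => ?_⟩)
        have hΔu := heq u hu.1.2 hu1 (hmemQ.1 hu.2).2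
        have hsub' : fixedBy Ω x ⊆ fixedBy Ω u := fun c hc => h1 c hc
        have := Set.eq_of_subset_of_ncard_le hsub' (by rw [hΔu, hΔ, hxc]) (Set.toFinite _)
        rw [← hΔu, ← this] at hb
        exact hb
    rw [Subgroup.card_bot] at hC2
    refine ⟨x, hxP, hxo, hxc, show Nat.card ↥C ≤ 9 by omega, z, (hmemQ.1 hzQ).1, ?_, fun hmem => ?_⟩
    · rw [← hzo, pow_orderOf_eq_one]
    · refine hxQ ?_
      obtain ⟨i, hi⟩ := Subgroup.mem_zpowers_iff.1 hmem
      have hz1 : z ≠ 1 := fun h => by rw [h, orderOf_one] at hzo; omega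
      have hle : Subgroup.zpowers z ≤ Subgroup.zpowers x := Subgroup.zpowers_le.2 hmem
      have heqz : Subgroup.zpowers z = Subgroup.zpowers x :=
        Subgroup.eq_of_le_of_card_ge hle (by rw [Nat.card_zpowers, Nat.card_zpowers, hxo, hzo])
      exact (Subgroup.zpowers_le.2 hzQ) (heqz ▸ Subgroup.mem_zpowers x)
  -- (D2) all elements with `e + 3` fixed points lie in `Qs`: transfer
  exfalso
  push Not at hD1
  have hbig : ∀ u ∈ (P : Subgroup G), (fixedBy Ω u).ncard = F.ncard + 3 → ∀ b ∈ Δ, u • b = b := by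
    intro u hu hf
    by_contra hcon
    exact hD1 u hu (fun h => hcon (hmemQ.1 h).2) hf
  have hout : ∀ u ∈ (P : Subgroup G), u ∉ Qs → fixedBy Ω u = F := by
    intro u hu hQ
    have hu1 : u ≠ 1 := fun h => hQ (h ▸ one_mem Qs)
    have hv := (hval u hu hu1).resolve_right fun h => hQ (hmemQ.2 ⟨hu, hbig u hu h⟩)
    exact (Set.eq_of_subset_of_ncard_le (hsub hu) hv.le (Set.toFinite _)).symm
  have hclosed : ∀ (g : G) (u : G), u ∈ Qs → g * u * g⁻¹ ∈ (P : Subgroup G) → g * u * g⁻¹ ∈ Qs := by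
    intro g u hu hv
    refine hmemQ.2 ⟨hv, ?_⟩
    by_cases hu1 : u = 1
    · intro b _; simp [hu1]
    refine hbig _ hv ?_
    rw [ncard_fixedBy_conj, heq u (hmemQ.1 hu).1 hu1 (hmemQ.1 hu).2, hΔ]
  -- the stabilizer of `Δ` and `F`
  set M := stabilizer G Δ ⊓ stabilizer G F with hM
  set D := Δ \ F with hD
  have hD3 : D.ncard = 3 := by rw [hD, Set.ncard_sdiff hFΔ (Set.toFinite _)]; omega
  have hMD : ∀ m ∈ M, m • D = D := fun m hm => by
    rw [hD, Set.smul_set_sdiff, (hm.1 : m • Δ = Δ), (hm.2 : m • F = F)]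
  have hPM : (P : Subgroup G) ≤ M := le_inf hLP fun u hu => smul_fixOf (Subgroup.le_normalizer hu)
  have hMmem : ∀ (m : ↥M) (b : ↥D), (m : G) • (b : Ω) ∈ D := fun m b => by
    have := Set.smul_mem_smul_set (a := (m : G)) b.2
    rwa [hMD m m.2] at this
  let ρ : ↥M →* Equiv.Perm ↥D :=
    { toFun := fun u => ⟨fun b => ⟨(u : G) • (b : Ω), hMmem u b⟩,
        fun b => ⟨((u⁻¹ : ↥M) : G) • (b : Ω), hMmem u⁻¹ b⟩,
        fun b => Subtype.ext (by simp), fun b => Subtype.ext (by simp)⟩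
      map_one' := Equiv.ext fun b => Subtype.ext (by simp)
      map_mul' := fun u v => Equiv.ext fun b => Subtype.ext (by simp [mul_smul]) }
  let φ₀ : ↥(P : Subgroup G) →* ↥ρ.range := ρ.rangeRestrict.comp (Subgroup.inclusion hPM)
  have hker : ∀ u : ↥(P : Subgroup G), φ₀ u = 1 ↔ (u : G) ∈ Qs := by
    intro u
    constructor
    · intro h
      refine hmemQ.2 ⟨u.2, fun b hb => ?_⟩
      by_cases hbF : b ∈ F
      · exact hbF _ u.2
      · exact congrArg Subtype.val (Equiv.congr_fun (congrArg Subtype.val h) ⟨b, hb, hbF⟩)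
    · intro h
      exact Subtype.ext (Equiv.ext fun b => Subtype.ext ((hmemQ.1 h).2 _ b.2.1))
  obtain ⟨u₀, hu₀⟩ : ∃ u₀ : ↥(P : Subgroup G), (u₀ : G) ∉ Qs := by
    by_contra hall
    push Not at hall
    have hsub' : Δ ⊆ F := fun b hb u hu => (hmemQ.1 (hall ⟨u, hu⟩)).2 b hb
    have := Set.ncard_le_ncard hsub' (Set.toFinite _)
    omega
  have hR : Nat.card ρ.range = 3 := by
    have h6 : Nat.card ρ.range ∣ 6 := by
      refine (Subgroup.card_subgroup_dvd_card _).trans ?_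
      rw [Nat.card_perm, Nat.card_coe_set_eq, hD3]
      decide
    have hodd : Odd (Nat.card ↥M) := by
      by_contra hev
      haveI : Fact (Nat.Prime 2) := ⟨Nat.prime_two⟩
      obtain ⟨m, hm⟩ := exists_prime_orderOf_dvd_card' 2 (even_iff_two_dvd.1 (Nat.not_odd_iff_even.1 hev))
      have hm' : orderOf (m : G) = 2 := by rw [Subgroup.orderOf_coe, hm]
      exact absurd (odd_orderOf_of_preserves hD3 hinv (hMD m m.2)) (by rw [hm']; decide)
    have hodd' : Odd (Nat.card ρ.range) := hodd.of_dvd_nat (Subgroup.card_range_dvd ρ)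
    have hne1 : Nat.card ρ.range ≠ 1 := by
      intro h1
      haveI := (Nat.card_eq_one_iff_unique.1 h1).1
      exact hu₀ ((hker u₀).1 (Subsingleton.elim _ _))
    have hle := Nat.le_of_dvd (by norm_num) h6
    generalize Nat.card ρ.range = c at h6 hodd' hne1 hle ⊢
    obtain ⟨i, rfl⟩ := hodd'
    have : i < 3 := by omega
    interval_cases i <;> norm_num at *
  let e : ↥ρ.range ≃* Multiplicative (ZMod 3) := mulEquivOfPrimeCardEq (p := 3) hR (by simp)
  refine absurd (?_ : (u₀ : G) ∈ commutator G) (not_mem_commutator P (e.toMonoidHom.comp φ₀) ?_ ?_ u₀ ?_)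
  · have hc : commutator G = ⊤ :=
      ((inferInstance : (commutator G).Normal).eq_bot_or_eq_top).resolve_left fun h =>
        hna ⟨⟨fun a b => commutatorElement_eq_one_iff_mul_comm.1 (Subgroup.mem_bot.1
          (h ▸ Subgroup.commutator_mem_commutator (Subgroup.mem_top a) (Subgroup.mem_top b)))⟩⟩
    rw [hc]; trivial
  · intro s
    have : (e (φ₀ s)) ^ Nat.card (Multiplicative (ZMod 3)) = 1 := pow_card_eq_one'
    simpa using this
  · intro u v g hg
    show e (φ₀ u) = e (φ₀ v)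
    congr 1
    by_cases huQ : (u : G) ∈ Qs
    · rw [(hker u).2 huQ, (hker v).2 (hg ▸ hclosed g u huQ (hg ▸ v.2))]
    by_cases hvQ : (v : G) ∈ Qs
    · refine absurd ?_ huQ
      have e1 : g⁻¹ * (v : G) * g⁻¹⁻¹ = (u : G) := by rw [← hg]; group
      have := hclosed g⁻¹ v hvQ (e1 ▸ u.2)
      rwa [e1] at this
    -- `z` and a conjugate of it commute with `v`
    have hz1 : z ≠ 1 := fun h => by rw [h, orderOf_one] at hzo; omega
    have hzP := (hmemQ.1 hzQ).1
    set C := Subgroup.centralizer {(v : G)} with hCdef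
    have hzC : z ∈ C := Subgroup.mem_centralizer_singleton_iff.2 (hzc v v.2).symm
    have hzC' : g * z * g⁻¹ ∈ C := by
      refine Subgroup.mem_centralizer_singleton_iff.2 ?_
      rw [← hg]
      calc g * z * g⁻¹ * (g * u * g⁻¹) = g * (z * u) * g⁻¹ := by group
        _ = g * (u * z) * g⁻¹ := by rw [hzc u u.2]
        _ = g * u * g⁻¹ * (g * z * g⁻¹) := by group
    have hp1 : ∀ a : ↥C, orderOf (a : G) = 3 → IsPGroup 3 (Subgroup.zpowers a) := fun a ha =>
      IsPGroup.of_card (n := 1) (by rw [Nat.card_zpowers, ← Subgroup.orderOf_coe, ha]; norm_num)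
    have hgz : orderOf (g * z * g⁻¹) = 3 := by
      rw [show g * z * g⁻¹ = MulAut.conj g z from rfl, MulEquiv.orderOf_eq, hzo]
    obtain ⟨S₁, hS₁⟩ := (hp1 ⟨z, hzC⟩ hzo).exists_le_sylow
    obtain ⟨S₂, hS₂⟩ := (hp1 ⟨g * z * g⁻¹, hzC'⟩ hgz).exists_le_sylow
    obtain ⟨c, hc⟩ := MulAction.exists_smul_eq (↥C) S₂ S₁
    have hzS : (⟨z, hzC⟩ : ↥C) ∈ (S₁ : Subgroup ↥C) := hS₁ (Subgroup.mem_zpowers _)
    have hwS : c * ⟨g * z * g⁻¹, hzC'⟩ * c⁻¹ ∈ (S₁ : Subgroup ↥C) := by
      rw [← hc, Sylow.coe_subgroup_smul, Subgroup.mem_pointwise_smul_iff_inv_smul_mem]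
      have he : c⁻¹ * (c * ⟨g * z * g⁻¹, hzC'⟩ * c⁻¹) * c = (⟨g * z * g⁻¹, hzC'⟩ : ↥C) := by group
      rw [← map_inv, MulAut.smul_def, MulAut.conj_apply, inv_inv, he]
      exact hS₂ (Subgroup.mem_zpowers _)
    obtain ⟨S, hS⟩ := (S₁.2.map C.subtype).exists_le_sylow
    obtain ⟨h, hh⟩ := MulAction.exists_smul_eq G P S
    have hin : ∀ a ∈ (S₁ : Subgroup ↥C), h⁻¹ * (a : G) * h⁻¹⁻¹ ∈ (P : Subgroup G) := by
      intro a ha
      have := hS ⟨a, ha, rfl⟩
      rw [← hh, Sylow.coe_subgroup_smul, Subgroup.mem_pointwise_smul_iff_inv_smul_mem] at this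
      simpa [MulAut.smul_def, ← map_inv] using this
    have hfixS : ∀ a : G, h⁻¹ * a * h⁻¹⁻¹ ∈ (P : Subgroup G) → a ≠ 1 →
        (fixedBy Ω a).ncard = F.ncard + 3 → fixedBy Ω a = h • Δ := by
      intro a ha ha1 haf
      have h1 := heq _ ha (fun h' => ha1 (conj_eq_one_iff.1 h'))
        (hbig _ ha (by rw [ncard_fixedBy_conj, haf]))
      rw [fixedBy_conj] at h1
      rw [← h1, smul_inv_smul]
    have hzΔ : fixedBy Ω z = Δ := heq z hzP hz1 (hmemQ.1 hzQ).2
    set w := (c : G) * g with hw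
    have hΔh : Δ = h • Δ := by
      conv_lhs => rw [← hzΔ]
      exact hfixS z (hin _ hzS) hz1 (by rw [hzΔ, hΔ])
    have hwΔ : w • Δ = Δ := by
      have hwz : w * z * w⁻¹ = ((c * ⟨g * z * g⁻¹, hzC'⟩ * c⁻¹ : ↥C) : G) := by
        simp only [Subgroup.coe_mul, Subgroup.coe_inv, hw]; group
      have h1 := hfixS (w * z * w⁻¹) (hwz ▸ hin _ hwS) (fun h' => hz1 (conj_eq_one_iff.1 h'))
        (by rw [ncard_fixedBy_conj, hzΔ, hΔ])
      rw [fixedBy_conj, hzΔ, ← hΔh] at h1
      exact h1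
    have hwuv : w * u * w⁻¹ = v := by
      have hcv : (c : G) * v = v * c := Subgroup.mem_centralizer_singleton_iff.1 c.2
      calc w * u * w⁻¹ = (c : G) * (g * u * g⁻¹) * (c : G)⁻¹ := by rw [hw]; group
        _ = v := by rw [hg, hcv, mul_inv_cancel_right]
    have hwF : w • F = F := by
      conv_lhs => rw [← hout u u.2 huQ]
      rw [← fixedBy_conj, hwuv, hout v v.2 hvQ]
    have hwM : w ∈ M := ⟨hwΔ, hwF⟩
    have heq' : (⟨w, hwM⟩ : ↥M) * Subgroup.inclusion hPM u * (⟨w, hwM⟩ : ↥M)⁻¹ =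
        Subgroup.inclusion hPM v := Subtype.ext hwuv
    have h' := congrArg ρ.rangeRestrict heq'
    rw [map_mul, map_mul, map_inv] at h'
    letI : IsCyclic ↥ρ.range := isCyclic_of_prime_card hR
    rw [show ∀ a b : ↥ρ.range, a * b * a⁻¹ = b from fun a b => by
      rw [IsCyclic.commGroup.mul_comm a b, mul_inv_cancel_right]] at h'
    exact h'
  · exact fun h => hu₀ ((hker u₀).1 (e.injective (h.trans (map_one e).symm)))

/-- The normalizer of `P` fixes a nontrivial homomorphism of `P` onto a group of order three. -/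
theorem not_le_commutator_normalizer [Fact (Nat.Prime 3)]
    (hinv : ∀ g : G, orderOf g = 2 → ∀ b : Ω, g • b ≠ b) (P : Sylow 3 G) (x : ↥(P : Subgroup G))
    (hxo : orderOf x = 3)
    (hxf : (fixedBy Ω (x : G)).ncard = (fixOf Ω (P : Subgroup G)).ncard + 3)
    (hI : (commutator ↥(P : Subgroup G)).index = 9)
    (hexp : ∀ u : ↥(P : Subgroup G), u ^ 3 ∈ commutator ↥(P : Subgroup G))
    (hcl : ∀ c ∈ commutator ↥(P : Subgroup G), ∃ u, u * x * u⁻¹ = x * c) :
    ¬ (P : Subgroup G) ≤ ⁅Subgroup.normalizer ((P : Subgroup G) : Set G),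
      Subgroup.normalizer ((P : Subgroup G) : Set G)⁆ := by
  classical
  set N := Subgroup.normalizer ((P : Subgroup G) : Set G) with hN
  set F := fixOf Ω (P : Subgroup G) with hF
  set V := Abelianization ↥(P : Subgroup G) with hV
  have hofk : ∀ u : ↥(P : Subgroup G), Abelianization.of u = 1 ↔ u ∈ commutator ↥(P : Subgroup G) :=
    fun u => QuotientGroup.eq_one_iff u
  have hofs : Function.Surjective (Abelianization.of (G := ↥(P : Subgroup G))) :=
    QuotientGroup.mk_surjective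
  -- nothing in `N` inverts `x` modulo the derived group
  have hno : ∀ (g : ↥N) (v : ↥(P : Subgroup G)),
      (v : G) = (g : G) * x * (g : G)⁻¹ → Abelianization.of v ≠ Abelianization.of x⁻¹ := by
    intro g v hv hof
    set c := x⁻¹⁻¹ * v with hc
    have hcP : c ∈ commutator ↥(P : Subgroup G) := (hofk c).1 (by
      rw [hc, map_mul, hof, ← map_mul, inv_mul_cancel, map_one])
    obtain ⟨u, hu⟩ := hcl (x⁻¹ * c⁻¹ * x) (by
      have := (inferInstance : (commutator ↥(P : Subgroup G)).Normal).conj_mem _ (inv_mem hcP) x⁻¹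
      simpa using this)
    set n := (u : G)⁻¹ * g with hn
    have hv' : u * x⁻¹ * u⁻¹ = v := by
      calc u * x⁻¹ * u⁻¹ = (u * x * u⁻¹)⁻¹ := by group
        _ = (x * (x⁻¹ * c⁻¹ * x))⁻¹ := by rw [hu]
        _ = v := by rw [hc]; group
    have hninv : n * x * n⁻¹ = (x : G)⁻¹ := by
      have hv'' : (u : G) * (x : G)⁻¹ * (u : G)⁻¹ = (v : G) := congrArg Subtype.val hv'
      calc n * x * n⁻¹ = (u : G)⁻¹ * ((g : G) * x * (g : G)⁻¹) * u := by rw [hn]; group
        _ = (x : G)⁻¹ := by rw [← hv, ← hv'']; group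
    have hnN : n ∈ N := mul_mem (inv_mem (Subgroup.le_normalizer u.2)) g.2
    have hnf : n • fixedBy Ω (x : G) = fixedBy Ω (x : G) := by
      rw [← fixedBy_conj, hninv, fixedBy_inv]
    have hD3 : (fixedBy Ω (x : G) \ F).ncard = 3 := by
      rw [Set.ncard_sdiff (show F ⊆ fixedBy Ω (x : G) from fun b hb => hb _ x.2) (Set.toFinite _), hxf, Nat.add_sub_cancel_left]
    obtain ⟨k, hk⟩ := odd_orderOf_of_preserves hD3 hinv (g := n)
      (by rw [Set.smul_set_sdiff, hnf, smul_fixOf hnN])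
    have hsq : (n * n) * x * (n * n)⁻¹ = x := by
      calc (n * n) * x * (n * n)⁻¹ = n * (n * x * n⁻¹) * n⁻¹ := by group
        _ = n * (x : G)⁻¹ * n⁻¹ := by rw [hninv]
        _ = (n * x * n⁻¹)⁻¹ := by group
        _ = x := by rw [hninv, inv_inv]
    have hcomm : Commute (n * n) (x : G) := mul_inv_eq_iff_eq_mul.1 hsq
    have hnx : Commute n (x : G) := by
      have e : (n * n) ^ (k + 1) = n := by
        rw [← pow_two, ← pow_mul, show 2 * (k + 1) = (2 * k + 1) + 1 by omega, ← hk, pow_succ,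
          pow_orderOf_eq_one, one_mul]
      rw [← e]; exact hcomm.pow_left _
    rw [hnx.eq, mul_inv_cancel_right] at hninv
    have h2 : (x : G) ^ 2 = 1 := by rw [pow_two]; exact eq_inv_iff_mul_eq_one.1 hninv
    have := Nat.le_of_dvd (by norm_num) (orderOf_dvd_of_pow_eq_one h2)
    rw [Subgroup.orderOf_coe, hxo] at this
    omega
  -- `P / P'` as pairs
  have hV3 : ∀ v : V, v ^ 3 = 1 := fun v => by
    obtain ⟨u, rfl⟩ := hofs v
    rw [← map_pow]; exact (hofk _).2 (hexp u)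
  letI : Module (ZMod 3) (Additive V) := AddCommGroup.zmodModule (n := 3) fun v =>
    Additive.toMul.injective (by simpa using hV3 (Additive.toMul v))
  haveI : Finite V := Finite.of_surjective _ hofs
  have hrank : Module.finrank (ZMod 3) (Additive V) = Module.finrank (ZMod 3) P2 := by
    have h1 := Module.natCard_eq_pow_finrank (K := ZMod 3) (V := Additive V)
    have h2 : Nat.card (Additive V) = 9 := by
      rw [← hI, Subgroup.index_eq_card]; rfl
    rw [h2, Nat.card_zmod] at h1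
    have h3 : Module.finrank (ZMod 3) P2 = 2 := by simp
    rw [h3]
    have : (3 : ℕ) ^ 2 = 3 ^ Module.finrank (ZMod 3) (Additive V) := by rw [← h1]; norm_num
    exact (Nat.pow_right_injective (le_refl 2 |>.trans (by norm_num)) this).symm
  let η : Additive V ≃+ P2 := (LinearEquiv.ofFinrankEq (Additive V) P2 hrank).toAddEquiv
  let cj : ↥N → (↥(P : Subgroup G) →* ↥(P : Subgroup G)) := fun g =>
    MonoidHom.mk' (fun u => ⟨(g : G) * u * (g : G)⁻¹, (Subgroup.mem_normalizer_iff.1 g.2 u).1 u.2⟩)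
      fun u v => Subtype.ext (by simp only [Subgroup.coe_mul]; group)
  let A : ↥N → (P2 →+ P2) := fun g =>
    η.toAddMonoidHom.comp ((MonoidHom.toAdditive (Abelianization.map (cj g))).comp η.symm.toAddMonoidHom)
  have hAof : ∀ (g : ↥N) (u : ↥(P : Subgroup G)),
      A g (η (Additive.ofMul (Abelianization.of u))) = η (Additive.ofMul (Abelianization.of (cj g u))) := by
    intro g u
    show η _ = η _
    rw [AddMonoidHom.comp_apply, AddEquiv.coe_toAddMonoidHom, AddEquiv.symm_apply_apply]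
    exact congrArg η (congrArg Additive.ofMul (Abelianization.map_of (cj g) u))
  have hsurj : ∀ v : P2, ∃ u : ↥(P : Subgroup G), η (Additive.ofMul (Abelianization.of u)) = v := fun v => by
    obtain ⟨u, hu⟩ := hofs (Additive.toMul (η.symm v))
    exact ⟨u, by rw [hu, ofMul_toMul, AddEquiv.apply_symm_apply]⟩
  have hA1 : ∀ v, A 1 v = v := fun v => by
    obtain ⟨u, rfl⟩ := hsurj v
    rw [hAof, show cj 1 u = u from Subtype.ext (by simp [cj])]
  have hAmul : ∀ g h v, A (g * h) v = A g (A h v) := fun g h v => by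
    obtain ⟨u, rfl⟩ := hsurj v
    rw [hAof, hAof, hAof, show cj (g * h) u = cj g (cj h u) from Subtype.ext (by simp [cj]; group)]
  have hAneg : ∀ g, ∃ v, A g v ≠ -v := fun g => by
    refine ⟨η (Additive.ofMul (Abelianization.of x)), fun h => hno g (cj g x) rfl ?_⟩
    rw [hAof, ← map_neg, ← ofMul_inv, ← map_inv] at h
    exact Additive.ofMul.injective (η.injective h)
  have hA3 : ∀ g, (∀ v, A g (A g (A g v)) = v) → ∀ v, A g v = v := by
    let π : ↥N →* Equiv.Perm P2 := MonoidHom.mk'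
      (fun g => ⟨A g, A g⁻¹, fun v => by rw [← hAmul, inv_mul_cancel, hA1],
        fun v => by rw [← hAmul, mul_inv_cancel, hA1]⟩) fun g h => Equiv.ext (hAmul g h)
    intro g hg
    have hPker : (P : Subgroup G).subgroupOf N ≤ π.ker := by
      intro a ha
      refine MonoidHom.mem_ker.2 (Equiv.ext fun v => ?_)
      obtain ⟨u, rfl⟩ := hsurj v
      show A a _ = _
      let a' : ↥(P : Subgroup G) := ⟨((a : ↥N) : G), Subgroup.mem_subgroupOf.1 ha⟩
      have he : Abelianization.of (cj a u) = Abelianization.of u := by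
        rw [show cj a u = a' * u * a'⁻¹ from Subtype.ext rfl, map_mul, map_mul, map_inv,
          mul_comm (Abelianization.of a'), mul_inv_cancel_right]
      rw [hAof, he]
      rfl
    have hcop : Nat.Coprime 3 (π.ker.index) := by
      refine Nat.Coprime.coprime_dvd_right (Subgroup.index_dvd_of_le hPker) ?_
      exact (Nat.Prime.coprime_iff_not_dvd Nat.prime_three).2
        (P.subtype Subgroup.le_normalizer).not_dvd_index
    have h3 : π g ^ 3 = 1 := Equiv.ext fun v => by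
      rw [pow_three]; exact hg v
    have hd : π g ^ π.ker.index = 1 := by
      rw [← map_pow]; exact MonoidHom.mem_ker.1 (π.ker.pow_index_mem g)
    have h := pow_gcd_eq_one.2 ⟨h3, hd⟩
    rw [hcop.gcd_eq_one, pow_one] at h
    exact fun v => Equiv.congr_fun h v
  obtain ⟨l, hl, hlA⟩ := exists_invariant_functional A hA1 hAmul hAneg hA3
  let lin : P2 →+ ZMod 3 := AddMonoidHom.mk' (fun v => l.1 * v.1 + l.2 * v.2) fun a b => by
    simp only [Prod.fst_add, Prod.snd_add]; ring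
  set S := P.subtype (Subgroup.le_normalizer (H := (P : Subgroup G))) with hS
  let toP : ↥(S : Subgroup ↥N) →* ↥(P : Subgroup G) :=
    MonoidHom.mk' (fun s => ⟨((s : ↥N) : G), Subgroup.mem_subgroupOf.1 s.2⟩) fun _ _ => rfl
  let ψ₀ : ↥(P : Subgroup G) → Multiplicative (ZMod 3) := fun u =>
    Multiplicative.ofAdd (lin (η (Additive.ofMul (Abelianization.of u))))
  let ψ : ↥(S : Subgroup ↥N) →* Multiplicative (ZMod 3) := MonoidHom.mk' (fun s => ψ₀ (toP s)) fun a b => by
    simp only [ψ₀, map_mul, ofMul_mul, map_add, ofAdd_add]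
  intro hle
  obtain ⟨v, hv⟩ : ∃ v : P2, lin v ≠ 0 := by
    by_contra hall
    push Not at hall
    exact hl (Prod.ext (by simpa [lin] using hall (1, 0)) (by simpa [lin] using hall (0, 1)))
  obtain ⟨u, rfl⟩ := hsurj v
  have huS : (⟨(u : G), Subgroup.le_normalizer u.2⟩ : ↥N) ∈ (S : Subgroup ↥N) := Subgroup.mem_subgroupOf.2 u.2
  refine not_mem_commutator S ψ ?_ ?_ ⟨_, huS⟩ ?_ ?_
  · intro s
    have : (ψ s) ^ Nat.card (Multiplicative (ZMod 3)) = 1 := pow_card_eq_one'
    simpa using this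
  · intro a b g hg
    show ψ₀ (toP a) = ψ₀ (toP b)
    have hb : toP b = cj g (toP a) := Subtype.ext (congrArg Subtype.val hg).symm
    rw [hb]
    simp only [ψ₀]
    rw [← hAof]
    exact congrArg Multiplicative.ofAdd (hlA g _).symm
  · intro h
    exact hv (Multiplicative.ofAdd.injective h)
  · have hmem := hle u.2
    rw [← N.range_subtype, MonoidHom.range_eq_map, ← Subgroup.map_commutator] at hmem
    obtain ⟨a, ha, hau⟩ := hmem
    have : a = ⟨(u : G), Subgroup.le_normalizer u.2⟩ := Subtype.ext hau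
    exact this ▸ ha

/-- The odd case of S3365: point stabilizers of odd order divisible by three. -/
theorem oddCase {G Ω : Type*} [Group G] [Finite G] [IsSimpleGroup G] (hna : ¬ IsMulCommutative G)
    [MulAction G Ω] [FaithfulSMul G Ω] [Finite Ω] (htrans : MulAction.IsPretransitive G Ω)
    (hfix : ∀ g : G, g ≠ 1 → Nat.card (MulAction.fixedBy Ω g) ≤ 4)
    (hinv : ∀ g : G, orderOf g = 2 → Nat.card (MulAction.fixedBy Ω g) = 0) (a : Ω)
    (h3 : 3 ∣ Nat.card (MulAction.stabilizer G a)) (P : Sylow 3 G) :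
    (∃ H : Subgroup G, H ≠ ⊤ ∧ 3 ∣ Nat.card H ∧
        ∀ g : G, g ∉ H → ¬ 3 ∣ Nat.card ↥(H ⊓ H.map (MulAut.conj g).toMonoidHom)) ∨
    (Nat.card P = 3 ∧ ∀ T : Sylow 2 (Subgroup.normalizer ((P : Subgroup G) : Set G)), Nat.card T ≤ 4) ∨
    (Nat.card P = 9 ∧ ∀ x ∈ (P : Subgroup G), x ^ 3 = 1) ∨
    (Nat.card P = 27 ∧ Cfsg.IsExtraspecial 3 (P : Subgroup G) ∧ ∀ x ∈ (P : Subgroup G), x ^ 3 = 1) ∨
    (∃ T : Sylow 3 (Equiv.Perm (Fin 9)), Nonempty ((P : Subgroup G) ≃* (T : Subgroup (Equiv.Perm (Fin 9))))) := by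
  classical
  haveI : Fact (Nat.Prime 3) := ⟨Nat.prime_three⟩
  have hfix' : ∀ g : G, g ≠ 1 → (fixedBy Ω g).ncard ≤ 4 := fun g hg => by
    rw [← Nat.card_coe_set_eq]; exact hfix g hg
  have hinv' : ∀ g : G, orderOf g = 2 → ∀ b : Ω, g • b ≠ b := fun g hg b hb => by
    have h := hinv g hg
    rw [Nat.card_coe_set_eq, Set.ncard_eq_zero (Set.toFinite _)] at h
    exact Set.eq_empty_iff_forall_notMem.1 h b hb
  -- an element of order three of `P` with a fixed point
  have hconjP : ∀ y : G, orderOf y = 3 →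
      ∃ q ∈ (P : Subgroup G), orderOf q = 3 ∧ (fixedBy Ω q).ncard = (fixedBy Ω y).ncard := by
    intro y hy
    obtain ⟨S, hS⟩ := (IsPGroup.of_card (n := 1) (by rw [Nat.card_zpowers, hy]; norm_num) :
      IsPGroup 3 (Subgroup.zpowers y)).exists_le_sylow
    obtain ⟨g, hg⟩ := MulAction.exists_smul_eq G S P
    refine ⟨g * y * g⁻¹, ?_, ?_, ncard_fixedBy_conj g y⟩
    · rw [← hg, Sylow.coe_subgroup_smul, Subgroup.mem_pointwise_smul_iff_inv_smul_mem]
      have he : g⁻¹ * (g * y * g⁻¹) * g = y := by group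
      rw [← map_inv, MulAut.smul_def, MulAut.conj_apply, inv_inv, he]
      exact hS (Subgroup.mem_zpowers y)
    · rw [show g * y * g⁻¹ = MulAut.conj g y from rfl, MulEquiv.orderOf_eq, hy]
  obtain ⟨y₀, hy₀⟩ := exists_prime_orderOf_dvd_card' 3 h3
  have hy₀o : orderOf (y₀ : G) = 3 := by rw [Subgroup.orderOf_coe, hy₀]
  have hy₀f : 0 < (fixedBy Ω (y₀ : G)).ncard := (Set.ncard_pos (Set.toFinite _)).2 ⟨a, y₀.2⟩
  obtain ⟨q₀, hq₀P, hq₀o, hq₀f⟩ := hconjP y₀ hy₀o
  have h3P : 3 ∣ Nat.card P := by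
    have := Subgroup.orderOf_dvd_natCard _ hq₀P
    rwa [hq₀o] at this
  set F := fixOf Ω (P : Subgroup G) with hF
  by_cases hP3 : Nat.card P = 3
  · refine Or.inr (Or.inl ⟨hP3, fun T => ?_⟩)
    have hPz : Subgroup.zpowers q₀ = (P : Subgroup G) :=
      Subgroup.eq_of_le_of_card_ge (Subgroup.zpowers_le.2 hq₀P) (by rw [Nat.card_zpowers, hq₀o, hP3])
    have hFq : F = fixedBy Ω q₀ := by rw [hF, ← hPz, fixOf_zpowers]
    have hF4 : F.ncard ≤ 4 := hFq ▸ hfix' q₀ (fun h => by rw [h, orderOf_one] at hq₀o; omega)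
    obtain ⟨b, hb⟩ : F.Nonempty := (Set.ncard_pos (Set.toFinite _)).1 (by rw [hFq, hq₀f]; exact hy₀f)
    let f : ↥(T : Subgroup ↥(Subgroup.normalizer ((P : Subgroup G) : Set G))) → ↥F := fun t => ⟨(t.1 : G) • b, by
      have h := smul_fixOf (Ω := Ω) t.1.2
      rw [← hF] at h
      rw [← h]; exact Set.smul_mem_smul_set hb⟩
    have hf : Function.Injective f := by
      intro s t hst
      by_contra hne
      set w := s⁻¹ * t with hw
      have hw1 : w ≠ 1 := fun h => hne (inv_mul_eq_one.1 h)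
      have hwb : (w.1 : G) • b = b := by
        simp only [hw, Subgroup.coe_mul, Subgroup.coe_inv]
        have hst' : (s.1 : G) • b = (t.1 : G) • b := congrArg Subtype.val hst
        rw [mul_smul, ← hst', inv_smul_smul]
      haveI : Fact (Nat.Prime 2) := ⟨Nat.prime_two⟩
      have h2 : 2 ∣ Nat.card (Subgroup.zpowers w) := by
        obtain ⟨k, hk⟩ := IsPGroup.iff_card.1 (T.2.to_subgroup (Subgroup.zpowers w))
        rw [hk]
        refine dvd_pow_self 2 fun h0 => hw1 ?_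
        rw [h0, pow_zero, Nat.card_zpowers, orderOf_eq_one_iff] at hk
        exact hk
      obtain ⟨⟨t', ht'⟩, ht'o⟩ := exists_prime_orderOf_dvd_card' 2 h2
      obtain ⟨k, rfl⟩ := Subgroup.mem_zpowers_iff.1 ht'
      rw [← Subgroup.orderOf_coe, ← Subgroup.orderOf_coe, ← Subgroup.orderOf_coe] at ht'o
      refine hinv' _ ht'o b ?_
      simpa [Subgroup.coe_zpow] using mem_fixedBy_zpow (α := Ω) hwb k
    calc Nat.card T ≤ Nat.card ↥F := Nat.card_le_card_of_injective f hf
      _ = F.ncard := Nat.card_coe_set_eq F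
      _ ≤ 4 := hF4
  have h9 : 9 ∣ Nat.card P := by
    obtain ⟨k, hk⟩ := IsPGroup.iff_card.1 P.2
    rw [hk] at hP3 h3P ⊢
    rcases k with _ | _ | k
    · simp at h3P
    · simp at hP3
    · rw [show (9 : ℕ) = 3 ^ 2 by norm_num]; exact pow_dvd_pow 3 (by omega)
  have hΩ : 4 < Nat.card Ω := five_le_card (h9.trans (Subgroup.card_subgroup_dvd_card _))
  have hF4 : F.ncard ≤ 4 :=
    (Set.ncard_le_ncard (fun b (hb : b ∈ F) => hb q₀ hq₀P) (Set.toFinite _)).trans
      (hfix' q₀ fun h => by rw [h, orderOf_one] at hq₀o; omega)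
  by_cases hbig : ∃ y : G, orderOf y = 3 ∧ F.ncard < (fixedBy Ω y).ncard
  swap
  · push Not at hbig
    refine Or.inl (strongly_embedded_of_fixed htrans P h3P hΩ hF4 ?_ hbig)
    exact (Set.ncard_pos (Set.toFinite _)).1 (lt_of_lt_of_le hy₀f (hbig _ hy₀o))
  obtain ⟨y₁, hy₁o, hy₁f⟩ := hbig
  obtain ⟨q, hqP, hqo, hqf⟩ := hconjP y₁ hy₁o
  obtain ⟨x, hxP, hxo, hxf, hxC, y, hyP, hy3, hyx⟩ :=
    exists_small_centralizer hna hfix' hinv' P hqP hqo (hqf ▸ hy₁f)
  set x' : ↥(P : Subgroup G) := ⟨x, hxP⟩ with hx'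
  have hx'o : orderOf x' = 3 := by rw [← Subgroup.orderOf_coe]; exact hxo
  have hC : Nat.card (Subgroup.centralizer ({x'} : Set ↥(P : Subgroup G))) ≤ 9 := by
    rw [← Subgroup.card_map_of_injective (P : Subgroup G).subtype_injective]
    refine (Subgroup.card_le_of_le ?_).trans hxC
    rintro _ ⟨u, hu, rfl⟩
    exact ⟨Subgroup.mem_centralizer_singleton_iff.2
      (congrArg Subtype.val (Subgroup.mem_centralizer_singleton_iff.1 hu)), u.2⟩
  obtain ⟨hI, hexp, hcl⟩ := class_eq_coset P.2 hx'o (y := ⟨y, hyP⟩) (Subtype.ext hy3) (fun h => hyx (by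
    obtain ⟨k, hk⟩ := Subgroup.mem_zpowers_iff.1 h
    exact ⟨k, congrArg Subtype.val hk⟩)) hC
  by_cases hP9 : Nat.card P = 9
  · refine Or.inr (Or.inr (Or.inl ⟨hP9, fun u hu => ?_⟩))
    have hbot : commutator ↥(P : Subgroup G) = ⊥ := by
      refine Subgroup.eq_bot_of_card_eq _ ?_
      have h := (commutator ↥(P : Subgroup G)).card_mul_index
      rw [hI, hP9] at h
      omega
    have := hexp ⟨u, hu⟩
    rw [hbot, Subgroup.mem_bot] at this
    exact congrArg Subtype.val this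
  refine Or.inr (Or.inr (Or.inr (Or.inr ?_)))
  have hne : (P : Subgroup G) ⊓ commutator G ≠
      (P : Subgroup G) ⊓ ⁅Subgroup.normalizer ((P : Subgroup G) : Set G),
        Subgroup.normalizer ((P : Subgroup G) : Set G)⁆ := by
    have hc : commutator G = ⊤ :=
      ((inferInstance : (commutator G).Normal).eq_bot_or_eq_top).resolve_left fun h =>
        hna ⟨⟨fun c d => commutatorElement_eq_one_iff_mul_comm.1 (Subgroup.mem_bot.1
          (h ▸ Subgroup.commutator_mem_commutator (Subgroup.mem_top c) (Subgroup.mem_top d)))⟩⟩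
    rw [hc, inf_top_eq]
    intro h
    exact not_le_commutator_normalizer hinv' P x' hx'o hxf hI hexp hcl (h.le.trans inf_le_right)
  obtain ⟨T, f, hf⟩ := Cfsg.Agent.S2807.result P hne
  have hx'3 : x' ^ 3 = 1 := orderOf_dvd_iff_pow_eq_one.1 hx'o.dvd
  have hinj := injective_of_sylow_nine P.2 hx'3 hI hcl T f hf
  exact ⟨T, ⟨MulEquiv.ofBijective f ⟨hinj, hf⟩⟩⟩

end Cfsg.Agent.Lib.FixityFour5
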