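import Cfsg.Agent.Lib.PGroups.Frattini
import Cfsg.Agent.Lib.PGroups.Omega
import Mathlib

/-!
# 3-groups with an element of order three with centralizer of order nine

helper5, for the odd case of S3365.

* `class_eq_coset`: such a group `P` (non-cyclic) has `|P : P'| = 9`, exponent three modulo `P'`, and
  the class of `x` is the whole coset `x P'`.
* `no_extension`: no such group maps properly onto the Sylow 3-subgroup of `Sym 9`.
* `exists_invariant_functional`: a group of automorphisms of `C₃ × C₃` of order prime to three without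
  `-1` fixes a nonzero functional.
-/

set_option autoImplicit false
set_option linter.style.haveILetI false

namespace Cfsg.Agent.Lib.FixityFour5

open Subgroup
open scoped commutatorElement

/-- A finite `p`-group with cyclic derived quotient is cyclic. -/
theorem isCyclic_of_quotient {P : Type*} [Group P] [Finite P] {p : ℕ} [Fact p.Prime] (hP : IsPGroup p P)
    [IsCyclic (P ⧸ commutator P)] : IsCyclic P := by
  obtain ⟨g, hg⟩ := IsCyclic.exists_generator (α := P ⧸ commutator P)
  obtain ⟨u, rfl⟩ := QuotientGroup.mk_surjective g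
  have h : zpowers u ⊔ frattini P = ⊤ := by
    refine eq_top_iff.2 fun v _ => ?_
    obtain ⟨k, hk⟩ := mem_zpowers_iff.1 (hg (v : P ⧸ commutator P))
    rw [← QuotientGroup.mk_zpow, QuotientGroup.eq] at hk
    have h1 : (u ^ k) ∈ zpowers u ⊔ frattini P := mem_sup_left ⟨k, rfl⟩
    have h2 : (u ^ k)⁻¹ * v ∈ zpowers u ⊔ frattini P :=
      mem_sup_right (PGroups.commutator_le_frattini hP hk)
    simpa using mul_mem h1 h2
  exact ⟨u, fun v => by rw [← mem_zpowers_iff, frattini_nongenerating h]; trivial⟩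

/-- An element of order three with a centralizer of order at most nine in a non-cyclic 3-group. -/
theorem class_eq_coset {P : Type*} [Group P] [Finite P] (hP : IsPGroup 3 P) {x y : P}
    (hx : orderOf x = 3) (hy : y ^ 3 = 1) (hyx : y ∉ zpowers x)
    (hC : Nat.card (centralizer ({x} : Set P)) ≤ 9) :
    (commutator P).index = 9 ∧ (∀ u : P, u ^ 3 ∈ commutator P) ∧
      ∀ c ∈ commutator P, ∃ u : P, u * x * u⁻¹ = x * c := by
  classical
  letI := Fintype.ofFinite P
  haveI : Fact (Nat.Prime 3) := ⟨Nat.prime_three⟩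
  have hncyc : ¬ IsCyclic P := by
    intro h
    have h1 := IsCyclic.card_pow_eq_one_le (α := P) (n := 3) (by norm_num)
    have h2 : insert y ((zpowers x : Set P).toFinset) ⊆ Finset.univ.filter (fun a : P => a ^ 3 = 1) := by
      intro a ha
      rw [Finset.mem_insert, Set.mem_toFinset] at ha
      rw [Finset.mem_filter]
      refine ⟨Finset.mem_univ _, ?_⟩
      rcases ha with rfl | ⟨k, rfl⟩
      · exact hy
      · show (x ^ k) ^ 3 = 1
        rw [← zpow_natCast (x ^ k), ← zpow_mul, mul_comm, zpow_mul, zpow_natCast, ← hx,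
          pow_orderOf_eq_one, one_zpow]
    have h3 := Finset.card_le_card h2
    rw [Finset.card_insert_of_notMem (by simpa using hyx), Set.toFinset_card, ← Nat.card_eq_fintype_card] at h3
    have h4 : Nat.card ↥(zpowers x : Set P) = 3 := (Nat.card_zpowers x).trans hx
    omega
  have hncyc' : ¬ IsCyclic (P ⧸ commutator P) := fun h => hncyc (isCyclic_of_quotient hP)
  obtain ⟨k, hk⟩ := IsPGroup.iff_card.1 (hP.to_quotient (commutator P))
  have hk2 : 2 ≤ k := by
    by_contra hcon
    have hk' : k = 0 ∨ k = 1 := by omega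
    refine hncyc' ?_
    rcases hk' with rfl | rfl
    · haveI : Subsingleton (P ⧸ commutator P) := (Nat.card_eq_one_iff_unique.1 hk).1
      infer_instance
    · exact isCyclic_of_prime_card (p := 3) (by simpa using hk)
  have hI : 9 ≤ (commutator P).index := by
    rw [Subgroup.index_eq_card, hk]
    calc (9 : ℕ) = 3 ^ 2 := by norm_num
      _ ≤ 3 ^ k := Nat.pow_le_pow_right (by norm_num) hk2
  set C := centralizer ({x} : Set P) with hCdef
  let f : P ⧸ C → P := fun q => x⁻¹ * (q.out * x * q.out⁻¹)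
  have hf : Function.Injective f := by
    intro a b hab
    have h : a.out * x * a.out⁻¹ = b.out * x * b.out⁻¹ := mul_left_cancel hab
    refine (QuotientGroup.out_eq' a).symm.trans
      ((QuotientGroup.eq.2 (mem_centralizer_singleton_iff.2 ?_)).trans (QuotientGroup.out_eq' b))
    calc a.out⁻¹ * b.out * x = a.out⁻¹ * (b.out * x * b.out⁻¹) * b.out := by group
      _ = a.out⁻¹ * (a.out * x * a.out⁻¹) * b.out := by rw [h]
      _ = x * (a.out⁻¹ * b.out) := by group
  have hmem : ∀ q, f q ∈ commutator P := fun q => by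
    have : f q = ⁅x⁻¹, q.out⁆ := by simp only [f, commutatorElement_def]; group
    rw [this, commutator_eq_closure]
    exact subset_closure ⟨_, _, rfl⟩
  let F : P ⧸ C → ↥(commutator P) := fun q => ⟨f q, hmem q⟩
  have hF : Function.Injective F := fun a b hab => hf (congrArg Subtype.val hab)
  have hle : C.index ≤ Nat.card ↥(commutator P) := by
    rw [Subgroup.index_eq_card]; exact Nat.card_le_card_of_injective F hF
  have h1 := C.card_mul_index
  have h2 := (commutator P).card_mul_index
  have hge : Nat.card ↥(commutator P) ≤ C.index := by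
    have h9 : Nat.card C * C.index ≤ 9 * C.index := Nat.mul_le_mul_right _ hC
    have h9' : Nat.card ↥(commutator P) * 9 ≤ Nat.card ↥(commutator P) * (commutator P).index :=
      Nat.mul_le_mul_left _ hI
    omega
  have heq : C.index = Nat.card ↥(commutator P) := le_antisymm hle hge
  have hbij : Function.Bijective F := by
    haveI : Fintype (P ⧸ C) := Fintype.ofFinite _
    rw [Fintype.bijective_iff_injective_and_card]
    exact ⟨hF, by rw [← Nat.card_eq_fintype_card, ← Nat.card_eq_fintype_card, ← Subgroup.index_eq_card, heq]⟩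
  have hpos : 0 < C.index := Nat.pos_of_ne_zero index_ne_zero_of_finite
  have hI9 : (commutator P).index = 9 := by
    have : Nat.card C = (commutator P).index := by
      apply Nat.eq_of_mul_eq_mul_left hpos
      rw [mul_comm _ (Nat.card C), h1, heq, h2]
    omega
  refine ⟨hI9, fun u => ?_, fun c hc => ?_⟩
  · rw [← QuotientGroup.eq_one_iff, QuotientGroup.mk_pow]
    by_contra h
    refine hncyc' (isCyclic_of_orderOf_eq_card (u : P ⧸ commutator P) ?_)
    have hord : orderOf (u : P ⧸ commutator P) = 3 ^ (1 + 1) := by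
      refine orderOf_eq_prime_pow (by rwa [pow_one]) ?_
      have := pow_card_eq_one' (x := (u : P ⧸ commutator P))
      rwa [← Subgroup.index_eq_card, hI9] at this
    rw [hord, ← Subgroup.index_eq_card, hI9]; norm_num
  · obtain ⟨q, hq⟩ := hbij.2 ⟨c, hc⟩
    refine ⟨q.out, ?_⟩
    have hq' : f q = c := congrArg Subtype.val hq
    rw [← hq']; simp only [f]; group

/-- In a quotient the centralizer of an element whose class is a coset of the derived group is no
larger than the derived index. -/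
theorem card_centralizer_image_le {P R : Type*} [Group P] [Finite P] [Group R] [Finite R] (f : P →* R)
    (hf : Function.Surjective f) {x : P} (hcl : ∀ c ∈ commutator P, ∃ u : P, u * x * u⁻¹ = x * c) :
    Nat.card (centralizer ({f x} : Set R)) ≤ (commutator P).index := by
  classical
  set C := centralizer ({f x} : Set R) with hCdef
  have hcomm : commutator R = (commutator P).map f := by
    rw [commutator_def, commutator_def, Subgroup.map_commutator, Subgroup.map_top_of_surjective f hf]
  have hex : ∀ c : ↥(commutator R), ∃ w : R, w * f x * w⁻¹ = f x * c := by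
    rintro ⟨c, hc⟩
    have hc' := hc
    rw [hcomm] at hc'
    obtain ⟨c, hcP, rfl⟩ := hc'
    obtain ⟨u, hu⟩ := hcl c hcP
    exact ⟨f u, by rw [← map_mul, ← map_inv, ← map_mul, hu, map_mul]⟩
  choose w hw using hex
  have hinj : Function.Injective (fun c : ↥(commutator R) => (w c : R ⧸ C)) := by
    intro a b hab
    have h : (w a)⁻¹ * w b ∈ C := QuotientGroup.eq.1 hab
    rw [hCdef, mem_centralizer_singleton_iff] at h
    have h' : w b * f x * (w b)⁻¹ = w a * f x * (w a)⁻¹ := by
      calc w b * f x * (w b)⁻¹ = w a * ((w a)⁻¹ * w b * f x) * (w b)⁻¹ := by group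
        _ = w a * (f x * ((w a)⁻¹ * w b)) * (w b)⁻¹ := by rw [h]
        _ = w a * f x * (w a)⁻¹ := by group
    rw [hw, hw] at h'
    exact Subtype.ext (mul_left_cancel h').symm
  have h1 : Nat.card ↥(commutator R) ≤ C.index := by
    rw [Subgroup.index_eq_card]; exact Nat.card_le_card_of_injective _ hinj
  have h2 : (commutator R).index ≤ (commutator P).index := by
    refine Nat.le_of_dvd (Nat.pos_of_ne_zero index_ne_zero_of_finite) ?_
    rw [hcomm]; exact index_map_dvd _ hf
  have e1 := C.card_mul_index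
  have e2 := (commutator R).card_mul_index
  have hpos : 0 < C.index := Nat.pos_of_ne_zero index_ne_zero_of_finite
  refine Nat.le_of_mul_le_mul_right ?_ hpos
  calc Nat.card C * C.index = Nat.card ↥(commutator R) * (commutator R).index := by rw [e1, e2]
    _ ≤ C.index * (commutator P).index := Nat.mul_le_mul h1 h2
    _ = (commutator P).index * C.index := mul_comm _ _

/-- The Sylow 3-subgroup of `Sym 9` has an elementary abelian normal subgroup of order 27. -/
theorem sylow_nine (T : Sylow 3 (Equiv.Perm (Fin 9))) :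
    Nat.card T = 81 ∧ ∃ A : Subgroup ↥(T : Subgroup (Equiv.Perm (Fin 9))), A.Normal ∧ Nat.card A = 27 ∧
      (∀ a ∈ A, ∀ b ∈ A, a * b = b * a) ∧ ∀ a ∈ A, a ^ 3 = 1 := by
  classical
  haveI : Fact (Nat.Prime 3) := ⟨Nat.prime_three⟩
  let e₁ : IteratedWreathProduct (Multiplicative (ZMod 3)) 1 ≃* Multiplicative (ZMod 3) :=
    MulEquiv.ofBijective
      (RegularWreathProduct.rightHom (D := IteratedWreathProduct (Multiplicative (ZMod 3)) 0)
        (Q := Multiplicative (ZMod 3)))
      ⟨fun a b h => RegularWreathProduct.ext (funext fun _ => Subsingleton.elim (α := PUnit) _ _) h,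
        fun q => ⟨RegularWreathProduct.inl q, rfl⟩⟩
  let e₂ : IteratedWreathProduct (Multiplicative (ZMod 3)) 2 ≃*
      RegularWreathProduct (Multiplicative (ZMod 3)) (Multiplicative (ZMod 3)) :=
    RegularWreathProduct.congr e₁ (MulEquiv.refl _)
  let e : ↥(T : Subgroup (Equiv.Perm (Fin 9))) ≃*
      RegularWreathProduct (Multiplicative (ZMod 3)) (Multiplicative (ZMod 3)) :=
    (Sylow.mulEquivIteratedWreathProduct 3 2 (Fin 9) (by simp) (Multiplicative (ZMod 3)) (by simp) T).trans e₂
  have hcard : Nat.card T = 81 := by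
    rw [Nat.card_congr e.toEquiv, RegularWreathProduct.card]
    simp
  let π := (RegularWreathProduct.rightHom (D := Multiplicative (ZMod 3))
    (Q := Multiplicative (ZMod 3))).comp e.toMonoidHom
  have hright : ∀ a ∈ π.ker, (e a).right = 1 := fun a ha => ha
  refine ⟨hcard, π.ker, inferInstance, ?_, fun a ha b hb => e.injective ?_, fun a ha => e.injective ?_⟩
  · have hs : Function.Surjective π := fun q => ⟨e.symm (RegularWreathProduct.inl q), by simp [π]⟩
    have h := π.ker.card_mul_index
    have h3 : Nat.card (Multiplicative (ZMod 3)) = 3 := by simp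
    rw [Subgroup.index_ker, MonoidHom.range_eq_top.2 hs, Subgroup.card_top, hcard, h3] at h
    omega
  · rw [map_mul, map_mul]
    refine RegularWreathProduct.ext (funext fun i => ?_) ?_
    · simp only [RegularWreathProduct.mul_left, hright a ha, hright b hb, inv_one, one_mul, Pi.mul_apply]
      exact mul_comm _ _
    · simp [hright a ha, hright b hb]
  · rw [map_pow, map_one, pow_three]
    refine RegularWreathProduct.ext (funext fun i => ?_) ?_
    · simp only [RegularWreathProduct.mul_left, hright a ha, inv_one, one_mul,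
        Pi.mul_apply, RegularWreathProduct.one_left, Pi.one_apply]
      rw [← pow_three]
      have : ((e a).left i) ^ Nat.card (Multiplicative (ZMod 3)) = 1 := pow_card_eq_one'
      simpa using this
    · simp [hright a ha]

/-- The calculation: no central extension by a nontrivial elementary abelian 3-group of a group with a
large normal elementary abelian subgroup keeps a centralizer of order nine outside it. -/
theorem no_central_extension {R W : Type*} [Group R] [Finite R] [Group W] [Finite W] (hR : IsPGroup 3 R)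
    (g : R →* W) (hg : Function.Surjective g) (hZc : g.ker ≤ center R) (hZ3 : ∀ z ∈ g.ker, z ^ 3 = 1)
    (hZ : g.ker ≠ ⊥) (A : Subgroup W) [A.Normal] (hA : 9 < Nat.card A)
    (hAc : ∀ a ∈ A, ∀ b ∈ A, a * b = b * a) (hA3 : ∀ a ∈ A, a ^ 3 = 1) {r : R} (hr : r ^ 3 = 1)
    (hCR : Nat.card (centralizer ({r} : Set R)) ≤ 9)
    (hCW : Nat.card (centralizer ({g r} : Set W)) ≤ 9) : False := by
  classical
  haveI : Fact (Nat.Prime 3) := ⟨Nat.prime_three⟩
  set t := g r with ht
  set C := centralizer ({t} : Set W) with hCdef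
  have htA : t ∉ A := by
    intro h
    have hle : A ≤ C := fun a ha => mem_centralizer_singleton_iff.2 (hAc a ha t h)
    have := card_le_of_le hle
    omega
  have hW : IsPGroup 3 W := hR.of_surjective g hg
  -- the fixed points of `t` on `A`
  have hCA : Nat.card ↥(A ⊓ C) ≤ 3 := by
    obtain ⟨k, hk⟩ := IsPGroup.iff_card.1 (hW.to_subgroup (A ⊓ C))
    have hlt : A ⊓ C < C := lt_of_le_of_ne inf_le_right fun h => htA
      ((h.ge.trans inf_le_left) (mem_centralizer_singleton_iff.2 rfl))
    have h1 : Nat.card ↥(A ⊓ C) < Nat.card C :=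
      lt_of_le_of_ne (card_le_of_le hlt.le) fun e => hlt.ne (eq_of_le_of_card_ge hlt.le e.ge)
    have hk' : k < 2 := by
      by_contra h
      have : 3 ^ 2 ≤ 3 ^ k := Nat.pow_le_pow_right (by norm_num) (by omega)
      omega
    rw [hk]
    calc 3 ^ k ≤ 3 ^ 1 := Nat.pow_le_pow_right (by norm_num) (by omega)
      _ = 3 := by norm_num
  set P1 := A.comap g with hP1
  have hrP : r ∉ P1 := htA
  -- some `a` has nontrivial second difference
  let D : R → R := fun u => u⁻¹ * (r * u * r⁻¹)
  have hDP : ∀ u ∈ P1, D u ∈ P1 := by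
    intro u hu
    exact mul_mem (inv_mem hu) ((inferInstance : P1.Normal).conj_mem u hu r)
  obtain ⟨a, ha, ha2⟩ : ∃ a ∈ P1, g (D (D a)) ≠ 1 := by
    by_contra hcon
    push Not at hcon
    let d : ↥A →* W := MonoidHom.mk' (fun u => (u : W)⁻¹ * (t * u * t⁻¹)) fun u v => by
      have hc := hAc _ (inv_mem v.2) _ (mul_mem (inv_mem u.2) ((inferInstance : A.Normal).conj_mem _ u.2 t))
      rw [Subgroup.coe_mul, mul_inv_rev]
      calc (v : W)⁻¹ * (u : W)⁻¹ * (t * (u * v) * t⁻¹)
          = (v : W)⁻¹ * ((u : W)⁻¹ * (t * u * t⁻¹)) * (t * v * t⁻¹) := by group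
        _ = (u : W)⁻¹ * (t * u * t⁻¹) * (v : W)⁻¹ * (t * v * t⁻¹) := by rw [hc]
        _ = (u : W)⁻¹ * (t * u * t⁻¹) * ((v : W)⁻¹ * (t * v * t⁻¹)) := by group
    have hker : d.ker.map A.subtype ≤ A ⊓ C := by
      rintro _ ⟨u, hu, rfl⟩
      refine ⟨u.2, mem_centralizer_singleton_iff.2 ?_⟩
      have h : (u : W)⁻¹ * (t * u * t⁻¹) = 1 := hu
      rw [inv_mul_eq_one, eq_mul_inv_iff_mul_eq] at h
      exact h
    have hrange : d.range ≤ A ⊓ C := by
      rintro _ ⟨u, rfl⟩
      obtain ⟨v, hv⟩ := hg u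
      have hvP : v ∈ P1 := by rw [hP1, mem_comap, hv]; exact u.2
      refine mem_inf.2 ⟨A.mul_mem (A.inv_mem u.2) ((inferInstance : A.Normal).conj_mem _ u.2 t), ?_⟩
      refine mem_centralizer_singleton_iff.2 ?_
      have h := hcon v hvP
      simp only [D, map_mul, map_inv, hv, ← ht] at h
      rw [inv_mul_eq_one, eq_mul_inv_iff_mul_eq] at h
      exact h
    have h1 := d.ker.card_mul_index
    rw [Subgroup.index_ker] at h1
    have h2 : Nat.card d.ker ≤ 3 := by
      rw [← card_map_of_injective A.subtype_injective]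
      exact (card_le_of_le hker).trans hCA
    have h3 : Nat.card d.range ≤ 3 := (card_le_of_le hrange).trans hCA
    have := Nat.mul_le_mul h2 h3
    omega
  have hcz : ∀ z ∈ g.ker, ∀ v : R, v * z = z * v := fun z hz => mem_center_iff.1 (hZc hz)
  have hker : ∀ {u : R}, g u = 1 → u ∈ g.ker := fun h => h
  set a1 := D a with ha1d
  set a2 := D a1 with ha2d
  have ha1 : a1 ∈ P1 := hDP a ha
  have ha2P : a2 ∈ P1 := hDP a1 ha1
  let σ : R →* R := (MulAut.conj r).toMonoidHom
  have hσ : ∀ u, σ u = r * u * r⁻¹ := fun _ => rfl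
  have hσz : ∀ z ∈ g.ker, σ z = z := fun z hz => by
    rw [hσ, hcz z hz r, mul_assoc, mul_inv_cancel, mul_one]
  have hσ3 : ∀ u, σ (σ (σ u)) = u := fun u => by
    simp only [hσ]
    calc r * (r * (r * u * r⁻¹) * r⁻¹) * r⁻¹ = r ^ 3 * u * (r ^ 3)⁻¹ := by
          rw [pow_three]; group
      _ = u := by rw [hr]; group
  have ea : σ a = a * a1 := by simp only [hσ, a1, D]; group
  have ea1 : σ a1 = a1 * a2 := by simp only [hσ, a2, D]; group
  set w := D a2 with hwd
  have ea2 : σ a2 = a2 * w := by simp only [hσ, w, D]; group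
  -- commutators of `P1` lie in the centre
  have hcom : ∀ u ∈ P1, ∀ v ∈ P1, ⁅u, v⁆ ∈ g.ker := fun u hu v hv => hker (by
    rw [map_commutatorElement]; exact commutatorElement_eq_one_iff_mul_comm.2 (hAc _ hu _ hv))
  have hbl : ∀ u ∈ P1, ∀ v ∈ P1, ∀ v' ∈ P1, ⁅u, v * v'⁆ = ⁅u, v⁆ * ⁅u, v'⁆ := by
    intro u hu v hv v' hv'
    have hc := hcz _ (hcom u hu v' hv') v
    calc ⁅u, v * v'⁆ = ⁅u, v⁆ * (v * ⁅u, v'⁆) * v⁻¹ := by simp only [commutatorElement_def]; group
      _ = ⁅u, v⁆ * (⁅u, v'⁆ * v) * v⁻¹ := by rw [hc]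
      _ = ⁅u, v⁆ * ⁅u, v'⁆ := by group
  have hbr : ∀ u ∈ P1, ∀ u' ∈ P1, ∀ v ∈ P1, ⁅u * u', v⁆ = ⁅u, v⁆ * ⁅u', v⁆ := by
    intro u hu u' hu' v hv
    rw [← inv_inj, commutatorElement_inv, mul_inv_rev, commutatorElement_inv, commutatorElement_inv,
      hbl v hv u hu u' hu', hcz _ (hcom v hv u' hu') ⁅v, u⁆]
  have hσc : ∀ u ∈ P1, ∀ v ∈ P1, ⁅σ u, σ v⁆ = ⁅u, v⁆ := fun u hu v hv => by
    rw [← map_commutatorElement]; exact hσz _ (hcom u hu v hv)
  have hwP : w ∈ P1 := hDP a2 ha2P
  -- `σ` has order three, so the third difference is central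
  have hwk : w ∈ g.ker := by
    have hgc : ∀ u ∈ P1, ∀ v ∈ P1, g (u * v) = g (v * u) := fun u hu v hv => by
      rw [map_mul, map_mul]; exact hAc _ hu _ hv
    have h3 := congrArg g (hσ3 a)
    rw [ea, map_mul σ a a1, ea, ea1, map_mul σ (a * a1) (a1 * a2), map_mul σ a a1, map_mul σ a1 a2,
      ea, ea1, ea2] at h3
    simp only [map_mul] at h3
    have c1 : g a1 ^ 3 = 1 := hA3 _ ha1
    have c2 : g a2 ^ 3 = 1 := hA3 _ ha2P
    have c12 : g a2 * g a1 = g a1 * g a2 := hAc _ ha2P _ ha1
    have key : g a * (g a1 ^ 3 * g a2 ^ 3) * g w = g a := by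
      refine Eq.trans ?_ h3
      have e : g a2 * (g a1 * g a2) = g a1 * g a2 * g a2 := by rw [← mul_assoc, c12]
      calc g a * (g a1 ^ 3 * g a2 ^ 3) * g w
          = g a * g a1 * (g a1 * (g a1 * g a2 * g a2)) * (g a2 * g w) := by
            simp only [pow_three, mul_assoc]
        _ = g a * g a1 * (g a1 * (g a2 * (g a1 * g a2))) * (g a2 * g w) := by rw [e]
        _ = g a * g a1 * (g a1 * g a2) * (g a1 * g a2 * (g a2 * g w)) := by simp only [mul_assoc]
    rw [c1, c2, mul_one, mul_one] at key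
    exact hker (mul_left_cancel (key.trans (mul_one _).symm))
  have hwc : ∀ v : R, v * w = w * v := hcz w hwk
  have hcw : ∀ u : R, ⁅u, w⁆ = 1 := fun u => commutatorElement_eq_one_iff_mul_comm.2 (hwc u)
  have hcw' : ∀ u : R, ⁅w, u⁆ = 1 := fun u => commutatorElement_eq_one_iff_mul_comm.2 (hwc u).symm
  -- `a2` commutes with `a` and `a1`
  have c12 : ⁅a1, a2⁆ = 1 := by
    have h := hσc a ha a2 ha2P
    rw [ea, ea2, hbr a ha a1 ha1 _ (mul_mem ha2P hwP), hbl a ha a2 ha2P w hwP,
      hbl a1 ha1 a2 ha2P w hwP, hcw, hcw, mul_one, mul_one] at h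
    exact mul_eq_left.1 h
  have c02 : ⁅a, a2⁆ = 1 := by
    have h := hσc a ha a1 ha1
    rw [ea, ea1, hbr a ha a1 ha1 _ (mul_mem ha1 ha2P), hbl a ha a1 ha1 a2 ha2P,
      hbl a1 ha1 a1 ha1 a2 ha2P, c12, commutatorElement_self, mul_one, mul_one] at h
    exact mul_eq_left.1 h
  -- cubes
  have hcube : ∀ u ∈ P1, ∀ v ∈ P1, (u * v) ^ 3 = u ^ 3 * v ^ 3 := by
    intro u hu v hv
    set c := ⁅v, u⁆ with hc
    have hck : c ∈ g.ker := hcom v hv u hu
    have hcomm : ∀ X : R, X * c = c * X := hcz c hck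
    have hvu : v * u = c * (u * v) := by rw [hc, commutatorElement_def]; group
    have s1 : u * v * (u * v) = c * (u * u * (v * v)) := by
      calc u * v * (u * v) = u * (v * u) * v := by group
        _ = u * (c * (u * v)) * v := by rw [hvu]
        _ = (u * c) * (u * v * v) := by group
        _ = (c * u) * (u * v * v) := by rw [hcomm u]
        _ = c * (u * u * (v * v)) := by group
    have s2 : v * v * u = c * c * (u * (v * v)) := by
      calc v * v * u = v * (v * u) := by group
        _ = v * (c * (u * v)) := by rw [hvu]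
        _ = (v * c) * (u * v) := by group
        _ = (c * v) * (u * v) := by rw [hcomm v]
        _ = c * (v * u) * v := by group
        _ = c * (c * (u * v)) * v := by rw [hvu]
        _ = c * c * (u * (v * v)) := by group
    calc (u * v) ^ 3 = u * v * (u * v) * (u * v) := by rw [pow_three]; group
      _ = c * (u * u * (v * v)) * (u * v) := by rw [s1]
      _ = c * (u * u) * (v * v * u) * v := by group
      _ = c * (u * u) * (c * c * (u * (v * v))) * v := by rw [s2]
      _ = c * (u * u * (c * c)) * (u * (v * v * v)) := by group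
      _ = c * (c * c * (u * u)) * (u * (v * v * v)) := by
          rw [show u * u * (c * c) = c * c * (u * u) by
            rw [← mul_assoc, hcomm (u * u), mul_assoc, hcomm (u * u)]; group]
      _ = c ^ 3 * (u ^ 3 * v ^ 3) := by simp only [pow_three]; group
      _ = u ^ 3 * v ^ 3 := by rw [hZ3 c hck, one_mul]
  have hσcube : ∀ u ∈ P1, σ u ^ 3 = u ^ 3 := fun u hu => by
    rw [← map_pow]; exact hσz _ (hker (by rw [map_pow]; exact hA3 _ hu))
  have e1 : a1 ^ 3 = 1 := by
    have h := hσcube a ha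
    rw [ea, hcube a ha a1 ha1] at h
    exact mul_eq_left.1 h
  have e2 : a2 ^ 3 = 1 := by
    have h := hσcube a1 ha1
    rw [ea1, hcube a1 ha1 a2 ha2P] at h
    exact mul_eq_left.1 h
  have hw1 : w = 1 := by
    have h21 : a2 * a1 = a1 * a2 := (commutatorElement_eq_one_iff_mul_comm.1 c12).symm
    have h3 := hσ3 a
    rw [ea, map_mul σ a a1, ea, ea1, map_mul σ (a * a1) (a1 * a2), map_mul σ a a1, map_mul σ a1 a2,
      ea, ea1, ea2] at h3
    have e : a2 * (a1 * a2) = a1 * a2 * a2 := by rw [← mul_assoc, h21]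
    have key : a * (a1 ^ 3 * a2 ^ 3) * w = a := by
      refine Eq.trans ?_ h3
      calc a * (a1 ^ 3 * a2 ^ 3) * w = a * a1 * (a1 * (a1 * a2 * a2)) * (a2 * w) := by
            simp only [pow_three, mul_assoc]
        _ = a * a1 * (a1 * (a2 * (a1 * a2))) * (a2 * w) := by rw [e]
        _ = a * a1 * (a1 * a2) * (a1 * a2 * (a2 * w)) := by simp only [mul_assoc]
    rw [e1, e2, mul_one, mul_one] at key
    exact mul_left_cancel (key.trans (mul_one _).symm)
  -- now `⟨ker g, a2⟩` of order at least nine is centralised by `r`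
  set Cr := centralizer ({r} : Set R) with hCr
  have hkC : g.ker ≤ Cr := fun z hz => mem_centralizer_singleton_iff.2 (hcz z hz r).symm
  have ha2C : a2 ∈ Cr := by
    have h := ea2
    rw [hw1, mul_one, hσ, mul_inv_eq_iff_eq_mul] at h
    exact mem_centralizer_singleton_iff.2 h.symm
  have h1 : g.ker < P1 ⊓ Cr := by
    refine lt_of_le_of_ne (le_inf (fun z hz => ?_) hkC) fun h => ha2 ?_
    · rw [hP1, mem_comap, show g z = 1 from hz]; exact one_mem _
    · exact (h ▸ (⟨ha2P, ha2C⟩ : a2 ∈ P1 ⊓ Cr) : a2 ∈ g.ker)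
  have h2 : P1 ⊓ Cr < Cr := lt_of_le_of_ne inf_le_right fun h => hrP
    ((h.ge.trans inf_le_left) (mem_centralizer_singleton_iff.2 rfl))
  have hstep : ∀ {H K : Subgroup R}, H < K → 3 * Nat.card H ≤ Nat.card K := by
    intro H K hHK
    obtain ⟨i, hi⟩ := IsPGroup.iff_card.1 (hR.to_subgroup H)
    obtain ⟨j, hj⟩ := IsPGroup.iff_card.1 (hR.to_subgroup K)
    have hlt : Nat.card H < Nat.card K :=
      lt_of_le_of_ne (card_le_of_le hHK.le) fun e => hHK.ne (eq_of_le_of_card_ge hHK.le e.ge)
    rw [hi, hj] at hlt ⊢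
    rw [← pow_succ']
    exact Nat.pow_le_pow_right (by norm_num) ((Nat.pow_lt_pow_iff_right (by norm_num)).1 hlt)
  have := hstep h1
  have := hstep h2
  have : 3 ≤ Nat.card g.ker := by
    have hb : (⊥ : Subgroup R) < g.ker := bot_lt_iff_ne_bot.2 hZ
    simpa using hstep hb
  omega

/-- A 3-group with a centralizer of order nine does not map properly onto a Sylow 3-subgroup of `Sym 9`. -/
theorem injective_of_sylow_nine {P : Type*} [Group P] [Finite P] (hP : IsPGroup 3 P) {x : P} (hx : x ^ 3 = 1)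
    (hI : (commutator P).index = 9) (hcl : ∀ c ∈ commutator P, ∃ u : P, u * x * u⁻¹ = x * c)
    (T : Sylow 3 (Equiv.Perm (Fin 9))) (f : P →* ↥(T : Subgroup (Equiv.Perm (Fin 9))))
    (hf : Function.Surjective f) : Function.Injective f := by
  classical
  haveI : Fact (Nat.Prime 3) := ⟨Nat.prime_three⟩
  by_contra hinj
  have hne : f.ker ≠ ⊥ := fun h => hinj ((MonoidHom.ker_eq_bot_iff f).1 h)
  obtain ⟨hcard, A, hAn, hA27, hAc, hA3⟩ := sylow_nine T
  -- a normal subgroup maximal below the kernel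
  haveI : Nonempty {K : Subgroup P // K.Normal ∧ K < f.ker} :=
    ⟨⟨⊥, inferInstance, bot_lt_iff_ne_bot.2 hne⟩⟩
  obtain ⟨⟨K, hKn, hKlt⟩, hmax⟩ :=
    Finite.exists_max fun K : {K : Subgroup P // K.Normal ∧ K < f.ker} => Nat.card K.1
  let q := QuotientGroup.mk' K
  have hq : Function.Surjective q := QuotientGroup.mk'_surjective K
  have hR : IsPGroup 3 (P ⧸ K) := hP.to_quotient K
  let g : P ⧸ K →* ↥(T : Subgroup (Equiv.Perm (Fin 9))) := QuotientGroup.lift K f hKlt.le
  have hgq : ∀ u : P, g (q u) = f u := fun u => QuotientGroup.lift_mk' K hKlt.le u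
  have hgs : Function.Surjective g := fun t => by
    obtain ⟨u, rfl⟩ := hf t; exact ⟨q u, hgq u⟩
  have hgne : g.ker ≠ ⊥ := by
    intro h
    obtain ⟨u, hu, huK⟩ := SetLike.exists_of_lt hKlt
    refine huK ((QuotientGroup.eq_one_iff u).1 ?_)
    have : q u ∈ g.ker := by rw [MonoidHom.mem_ker, hgq]; exact hu
    rw [h, mem_bot] at this
    exact this
  -- minimality: any nontrivial normal subgroup inside `ker g` is all of it
  have hmin : ∀ M : Subgroup (P ⧸ K), M.Normal → M ≤ g.ker → M ≠ ⊥ → M = g.ker := by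
    intro M hMn hMle hMne
    by_contra hMne'
    have hlt : M.comap q < f.ker := by
      refine lt_of_le_of_ne (fun u hu => ?_) fun h => hMne' (le_antisymm hMle fun v hv => ?_)
      · have : q u ∈ g.ker := hMle hu
        rwa [MonoidHom.mem_ker, hgq] at this
      · obtain ⟨u, rfl⟩ := hq v
        rw [MonoidHom.mem_ker, hgq] at hv
        exact (h ▸ hv : u ∈ M.comap q)
    have hKM : K < M.comap q := by
      refine lt_of_le_of_ne (fun u hu => ?_) fun h => hMne (eq_bot_iff.2 fun v hv => ?_)
      · rw [mem_comap, show q u = 1 from (QuotientGroup.eq_one_iff u).2 hu]; exact one_mem _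
      · obtain ⟨u, rfl⟩ := hq v
        rw [mem_bot]
        exact (QuotientGroup.eq_one_iff u).2 (h ▸ (hv : u ∈ M.comap q))
    have h1 := hmax ⟨M.comap q, hMn.comap q, hlt⟩
    exact hKM.ne (eq_of_le_of_card_ge hKM.le h1)
  obtain ⟨z, hz, hz1⟩ : ∃ z ∈ g.ker ⊓ center (P ⧸ K), z ≠ 1 :=
    (Subgroup.ne_bot_iff_exists_ne_one (H := g.ker ⊓ center (P ⧸ K))).1
      (PGroups.normal_inf_center_ne_bot hR g.ker hgne) |>.elim fun z hz => ⟨z.1, z.2, fun h => hz (Subtype.ext h)⟩
  obtain ⟨z', hz', hz'3⟩ : ∃ z' ∈ g.ker ⊓ center (P ⧸ K), orderOf z' = 3 := by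
    have h3 : 3 ∣ Nat.card ↥(g.ker ⊓ center (P ⧸ K)) := by
      obtain ⟨j, hj⟩ := IsPGroup.iff_card.1 (hR.to_subgroup (g.ker ⊓ center (P ⧸ K)))
      rcases Nat.eq_zero_or_pos j with rfl | hj0
      · rw [pow_zero] at hj
        haveI := (Nat.card_eq_one_iff_unique.1 hj).1
        exact absurd (congrArg Subtype.val (Subsingleton.elim (⟨z, hz⟩ : ↥(g.ker ⊓ center (P ⧸ K))) 1)) hz1
      · rw [hj]; exact dvd_pow_self 3 hj0.ne'
    obtain ⟨z', hz'⟩ := exists_prime_orderOf_dvd_card' 3 h3
    exact ⟨z', z'.2, by rw [Subgroup.orderOf_coe, hz']⟩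
  have hzn : (zpowers z').Normal := ⟨fun u hu v => by
    obtain ⟨i, rfl⟩ := mem_zpowers_iff.1 hu
    rw [mem_center_iff.1 ((center (P ⧸ K)).zpow_mem hz'.2 i) v, mul_inv_cancel_right]
    exact ⟨i, rfl⟩⟩
  have hkereq := hmin _ hzn (zpowers_le.2 hz'.1) (fun h => by
    rw [zpowers_eq_bot] at h
    rw [h, orderOf_one] at hz'3
    omega)
  haveI := hAn
  refine no_central_extension hR g hgs ?_ ?_ hgne A (by omega) hAc hA3 (r := q x)
    (by rw [← map_pow, hx, map_one]) ?_ ?_
  · rw [← hkereq, zpowers_le]; exact hz'.2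
  · intro v hv
    rw [← hkereq] at hv
    obtain ⟨i, rfl⟩ := mem_zpowers_iff.1 hv
    rw [← zpow_natCast (z' ^ i), ← zpow_mul, mul_comm, zpow_mul, zpow_natCast, ← hz'3, pow_orderOf_eq_one,
      one_zpow]
  · exact (card_centralizer_image_le q hq hcl).trans hI.le
  · rw [hgq]; exact (card_centralizer_image_le f hf hcl).trans hI.le

/-! ### Linear algebra over `C₃ × C₃` -/

/-- Pairs over `ZMod 3`. -/
abbrev P2 := ZMod 3 × ZMod 3

/-- The linear map with the given columns. -/
def ap (M : P2 × P2) (v : P2) : P2 := (v.1 * M.1.1 + v.2 * M.2.1, v.1 * M.1.2 + v.2 * M.2.2)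

/-- Product of column pairs. -/
def mm (M N : P2 × P2) : P2 × P2 := (ap M N.1, ap M N.2)

/-- Determinant. -/
def dt (M : P2 × P2) : ZMod 3 := M.1.1 * M.2.2 - M.1.2 * M.2.1

theorem dt_mm (M N : P2 × P2) : dt (mm M N) = dt M * dt N := by simp only [dt, mm, ap]; ring

/-- The identity. -/
def idM : P2 × P2 := ((1, 0), (0, 1))

/-- Minus the identity. -/
def negM : P2 × P2 := ((-1, 0), (0, -1))

set_option synthInstance.maxSize 2000 in
set_option synthInstance.maxHeartbeats 200000 in
theorem mat_cases : ∀ M : P2 × P2, dt M ≠ 0 → M ≠ negM → mm M M ≠ negM → mm M (mm M M) ≠ negM →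
    mm (mm M M) (mm M M) ≠ negM → (mm M (mm M M) = idM → M = idM) →
    (mm (mm M M) (mm (mm M M) (mm M M)) = idM → mm M M = idM) →
    M = idM ∨ (mm M M = idM ∧ dt M = -1) := by
  decide +kernel

set_option synthInstance.maxSize 2000 in
set_option synthInstance.maxHeartbeats 200000 in
theorem reflection_functional : ∀ M : P2 × P2, mm M M = idM → dt M = -1 →
    ∃ l : P2, l ≠ 0 ∧ l.1 * M.1.1 + l.2 * M.1.2 = l.1 ∧ l.1 * M.2.1 + l.2 * M.2.2 = l.2 := by
  decide +kernel

theorem ap_id (v : P2) : ap idM v = v := by simp [ap, idM]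

theorem addHom_eq_ap (f : P2 →+ P2) (v : P2) : f v = ap (f (1, 0), f (0, 1)) v := by
  have hv : v = v.1.val • ((1, 0) : P2) + v.2.val • ((0, 1) : P2) := by
    ext <;> simp
  conv_lhs => rw [hv, map_add, map_nsmul, map_nsmul]
  ext <;> simp [ap, nsmul_eq_mul]

/-- A group of automorphisms of `C₃ × C₃` with no element `-1`, in which an element of cube one is
trivial, fixes a nonzero functional. -/
theorem exists_invariant_functional {N : Type*} [Group N] (A : N → (P2 →+ P2))
    (h1 : ∀ v, A 1 v = v) (hmul : ∀ g h v, A (g * h) v = A g (A h v))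
    (hneg : ∀ g, ∃ v, A g v ≠ -v) (h3 : ∀ g, (∀ v, A g (A g (A g v)) = v) → ∀ v, A g v = v) :
    ∃ l : P2, l ≠ 0 ∧ ∀ g v, l.1 * (A g v).1 + l.2 * (A g v).2 = l.1 * v.1 + l.2 * v.2 := by
  let m : N → P2 × P2 := fun g => (A g (1, 0), A g (0, 1))
  have hA : ∀ g v, A g v = ap (m g) v := fun g v => addHom_eq_ap (A g) v
  have hm : ∀ g h, m (g * h) = mm (m g) (m h) := fun g h => by
    simp only [m, mm, hmul]; exact Prod.ext (hA g _) (hA g _)
  have hid : ∀ g, m g = idM → ∀ v, A g v = v := fun g hg v => by rw [hA, hg, ap_id]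
  have hm1 : m 1 = idM := by simp only [m, h1, idM]
  have hdt : ∀ g, dt (m g) ≠ 0 := fun g h0 => by
    have h := congrArg dt (hm g g⁻¹)
    rw [mul_inv_cancel, hm1, dt_mm, h0, zero_mul] at h
    exact absurd h (by decide)
  have hnegM : ∀ g, m g ≠ negM := fun g hg => by
    obtain ⟨v, hv⟩ := hneg g
    refine hv ?_
    rw [hA, hg]; ext <;> simp [ap, negM]
  have hcube : ∀ g, mm (m g) (mm (m g) (m g)) = idM → m g = idM := fun g hg => by
    have h := h3 g fun v => by
      rw [← hmul, ← hmul]; exact hid _ (by rw [mul_assoc, hm, hm]; exact hg) v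
    simp only [m, h, idM]
  have hcases : ∀ g, m g = idM ∨ (mm (m g) (m g) = idM ∧ dt (m g) = -1) := fun g =>
    mat_cases (m g) (hdt g) (hnegM g) (hm g g ▸ hnegM _) (by rw [← hm g g, ← hm]; exact hnegM _)
      (by rw [← hm g g, ← hm]; exact hnegM _) (hcube g) (by rw [← hm g g]; exact hcube (g * g))
  by_cases hall : ∀ g, m g = idM
  · exact ⟨(1, 0), by decide, fun g v => by rw [hid g (hall g)]⟩
  push Not at hall
  obtain ⟨g₀, hg₀⟩ := hall
  obtain ⟨hR2, hRd⟩ := (hcases g₀).resolve_left hg₀
  obtain ⟨l, hl, hl1, hl2⟩ := reflection_functional (m g₀) hR2 hRd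
  refine ⟨l, hl, fun g v => ?_⟩
  rcases hcases g with hg | ⟨-, hgd⟩
  · rw [hid g hg]
  · have hgg : m (g₀ * g) = idM := by
      refine (hcases (g₀ * g)).resolve_right fun h => ?_
      have h' := h.2
      rw [hm, dt_mm, hRd, hgd] at h'
      exact absurd h' (by decide)
    have heq : A g v = A g₀ v := by
      have e1 : A g₀ (A g v) = v := by rw [← hmul]; exact hid _ hgg v
      have e2 : A (g₀ * g₀) (A g v) = A g v := hid _ (by rw [hm]; exact hR2) _
      rw [hmul, e1] at e2
      exact e2.symm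
    rw [heq, hA]
    simp only [ap]
    linear_combination v.1 * hl1 + v.2 * hl2

end Cfsg.Agent.Lib.FixityFour5
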